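import Cfsg.Agent.Lib.Recog.OrderSix.Six.Defs
import Cfsg.Agent.Lib.Invol.BaerSuzuki
import Cfsg.Agent.Lib.Core.PSolvable
import Cfsg.Agent.Lib.PGroup.Basic

/-!
# Element orders at most six: centralizers of involutions and of elements of order three
-/

set_option autoImplicit false
set_option linter.unusedSectionVars false
set_option linter.style.haveILetI false

namespace Cfsg.Lib.Recog.OrderSix.Six

open Subgroup
open Cfsg.Lib

universe u

variable {G : Type u} [Group G] [Finite G]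

/-- The `p`-core of the centralizer of `g`. -/
def cR (p : ℕ) (g : G) : Subgroup G :=
  (Cfsg.pCore p ↥(centralizer ({g} : Set G))).map (centralizer ({g} : Set G)).subtype

theorem commute_of_mem_cR {p : ℕ} {g r : G} (hr : r ∈ cR p g) : Commute r g := by
  obtain ⟨⟨x, hx⟩, -, rfl⟩ := hr
  exact mem_centralizer_singleton_iff.1 hx

theorem isPGroup_cR (p : ℕ) (g : G) : IsPGroup p (cR p g) :=
  (Core.pCore_isPGroup p _).map _

theorem conj_mem_cR {p : ℕ} {g c r : G} (hc : Commute c g) (hr : r ∈ cR p g) : c * r * c⁻¹ ∈ cR p g := by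
  obtain ⟨x, hx, rfl⟩ := hr
  exact ⟨_, (inferInstance : (Cfsg.pCore p ↥(centralizer ({g} : Set G))).Normal).conj_mem x hx
    ⟨c, mem_centralizer_singleton_iff.2 hc.eq⟩, rfl⟩

theorem self_mem_cR_two {t : G} (ht : t * t = 1) : t ∈ cR 2 t := by
  haveI : Fact (Nat.Prime 2) := ⟨Nat.prime_two⟩
  set C := centralizer ({t} : Set G)
  let t' : C := ⟨t, mem_centralizer_singleton_iff.2 rfl⟩
  haveI : (zpowers t').Normal := ⟨fun n hn g => by
    obtain ⟨k, rfl⟩ := hn
    refine ⟨k, Subtype.ext ?_⟩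
    show ((t' ^ k : C) : G) = (g : G) * ((t' ^ k : C) : G) * (g : G)⁻¹
    rw [SubgroupClass.coe_zpow, ((show Commute (g : G) t from mem_centralizer_singleton_iff.1 g.2).zpow_right k).eq,
      mul_inv_cancel_right]⟩
  refine ⟨t', Core.le_pCore ?_ (mem_zpowers t'), rfl⟩
  rintro ⟨_, k, rfl⟩
  refine ⟨1, Subtype.ext ?_⟩
  show (t' ^ k) ^ (2 ^ 1) = 1
  rw [← zpow_natCast (t' ^ k), ← zpow_mul, mul_comm, zpow_mul, zpow_natCast,
    show t' ^ (2 ^ 1) = 1 from Subtype.ext (by show t ^ 2 = 1; rw [pow_two, ht]), one_zpow]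

theorem sq_of_commute {a b : G} (ha : a * a = 1) (hb : b * b = 1) (hc : Commute a b) :
    a * b * (a * b) = 1 := by
  rw [hc.symm.mul_mul_mul_comm, ha, hb, one_mul]

theorem commute_of_sq {a b : G} (ha : a * a = 1) (hb : b * b = 1) (hab : a * b * (a * b) = 1) :
    Commute a b := by
  calc a * b = (a * b)⁻¹ := (inv_eq_of_mul_eq_one_left hab).symm
    _ = b * a := by rw [mul_inv_rev, inv_eq_of_mul_eq_one_left ha, inv_eq_of_mul_eq_one_left hb]

/-- Elements commuting with an element of order three have sixth power one. -/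
theorem pow_six_of_commute (h : OrdSix G) {g y : G} (hy : orderOf y = 3) (hc : Commute g y) : g ^ 6 = 1 := by
  rw [← orderOf_dvd_iff_pow_eq_one]
  have h0 := orderOf_pos g
  have h6 := h g
  have h4 : orderOf g ≠ 4 := fun e => h.not_commute_four e hy hc
  have h5 : orderOf g ≠ 5 := fun e => by
    have := h.coprime_commute hc (by rw [e, hy]; decide)
    rw [e, hy] at this
    omega
  interval_cases orderOf g <;> omega

theorem sq_one_of_commute (h : OrdSix G) {g y : G} (hy : orderOf y = 3) (hc : Commute g y) {k : ℕ}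
    (hg : g ^ 2 ^ k = 1) : g * g = 1 := by
  obtain ⟨j, -, hj⟩ := (Nat.dvd_prime_pow Nat.prime_two).1 (orderOf_dvd_of_pow_eq_one hg)
  rw [← pow_two, show (2 : ℕ) = Nat.gcd 4 6 from rfl]
  exact pow_gcd_eq_one.2 ⟨h.two_pow_four hj, pow_six_of_commute h hy hc⟩

theorem sq_one_of_mem (h : OrdSix G) {g y : G} {R : Subgroup G} (hR : IsPGroup 2 R) (hy : orderOf y = 3)
    (hg : g ∈ R) (hc : Commute g y) : g * g = 1 := by
  obtain ⟨k, hk⟩ := hR ⟨g, hg⟩
  exact sq_one_of_commute h hy hc (congrArg Subtype.val hk)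

theorem not_five_dvd_three (h : OrdSix G) {y : G} (hy : orderOf y = 3) :
    ¬ 5 ∣ Nat.card (centralizer ({y} : Set G)) := fun hd => by
  haveI : Fact (Nat.Prime 5) := ⟨by norm_num⟩
  obtain ⟨⟨f, hfy⟩, hf⟩ := exists_prime_orderOf_dvd_card' 5 hd
  rw [Subgroup.orderOf_mk] at hf
  have := h.not_commute_five hf (fun e => by rw [e, orderOf_one] at hy; omega)
    (mem_centralizer_singleton_iff.1 hfy)
  omega

/-- An involution of a centralizer without elements of order five is in its two-core or inverts an element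
of order three of it. -/
theorem mem_core_or_inverts (h : OrdSix G) {g s : G}
    (h5 : ¬ 5 ∣ Nat.card (centralizer ({g} : Set G))) (hs : s * s = 1) (hsg : Commute s g) :
    s ∈ cR 2 g ∨ ∃ b : G, b ^ 3 = 1 ∧ b ≠ 1 ∧ Commute b g ∧ s * b * s⁻¹ = b⁻¹ := by
  by_cases hs1 : s = 1
  · exact Or.inl (hs1 ▸ one_mem _)
  let s' : centralizer ({g} : Set G) := ⟨s, mem_centralizer_singleton_iff.2 hsg.eq⟩
  have hs' : orderOf s' = 2 := by rw [Subgroup.orderOf_mk]; exact Invol.orderOf_eq_two_of hs1 hs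
  refine (em (s' ∈ Cfsg.pCore 2 ↥(centralizer ({g} : Set G)))).imp (fun hm => ⟨s', hm, rfl⟩) fun hn => ?_
  obtain ⟨⟨b, hb⟩, hb1, hodd, hbs⟩ := Invol.exists_inverted_odd hs' fun N hN hN2 hsN =>
    hn (Core.le_pCore' hN hN2 hsN)
  rw [Subgroup.orderOf_mk] at hodd
  refine ⟨b, ?_, fun e => hb1 (Subtype.ext e), mem_centralizer_singleton_iff.1 hb, congrArg Subtype.val hbs⟩
  have h5' : orderOf b ≠ 5 := fun e => by
    refine h5 (e ▸ ?_)
    rw [← Subgroup.orderOf_mk b hb]
    exact orderOf_dvd_natCard _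
  have h1 : orderOf b ≠ 1 := fun e => hb1 (Subtype.ext (orderOf_eq_one_iff.1 e))
  have h6 := h b
  have h0 := orderOf_pos b
  rw [← orderOf_dvd_iff_pow_eq_one]
  interval_cases ho : orderOf b <;> simp_all (config := { decide := true })

theorem pure_mem_core (h : OrdSix G) {g z : G} (h5 : ¬ 5 ∣ Nat.card (centralizer ({g} : Set G)))
    (hz : z * z = 1) (hp : Pure z) (hzg : Commute z g) : z ∈ cR 2 g :=
  (mem_core_or_inverts h h5 hz hzg).resolve_right fun ⟨b, hb, hb1, _, hi⟩ => hb1 (hp b hb hi)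

/-- An involution in the two-core of the centralizer of an element of order three. -/
theorem central_of_mem (h : OrdSix G) {z y : G} (hy : orderOf y = 3) (hz : z ∈ cR 2 y) (hz2 : z * z = 1) :
    Central z y := by
  have hzy : Commute z y := commute_of_mem_cR hz
  refine ⟨hzy, fun g hg hgy => (commute_of_sq hg hz2 ?_), fun k hk => ?_⟩
  · have hsq : g * z * (g * z) = g * z * g⁻¹ * z := by
      rw [inv_eq_of_mul_eq_one_left hg]; group
    obtain ⟨n, hn⟩ := isPGroup_cR 2 y ⟨g * z * (g * z), hsq ▸ mul_mem (conj_mem_cR hgy hz) hz⟩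
    refine sq_one_of_commute h hy (hgy.mul_left hzy) (k := n + 1) ?_
    rw [pow_succ', pow_mul, pow_two]
    exact congrArg Subtype.val hn
  · have hm := conj_mem_cR hk hz
    refine commute_of_sq hz2 ?_ (sq_one_of_mem h (isPGroup_cR 2 y) hy (mul_mem hz hm) ?_)
    · rw [show k * z * k⁻¹ * (k * z * k⁻¹) = k * (z * z) * k⁻¹ by group, hz2, mul_one, mul_inv_cancel]
    · exact hzy.mul_left ((hk.mul_left hzy).mul_left hk.inv_left)

theorem exists_invol_cR {y : G} (hne : cR 2 y ≠ ⊥) : ∃ z ∈ cR 2 y, z ≠ 1 ∧ z * z = 1 := by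
  haveI : Fact (Nat.Prime 2) := ⟨Nat.prime_two⟩
  obtain ⟨g, hg, hg1⟩ := (cR 2 y).bot_or_exists_ne_one.resolve_left hne
  obtain ⟨n, hn⟩ := IsPGroup.iff_card.1 (isPGroup_cR 2 y)
  have hd : 2 ∣ Nat.card (cR 2 y) := by
    rw [hn]
    refine dvd_pow_self 2 fun e => ?_
    rw [e, pow_zero] at hn
    exact hg1 (by simpa [Subgroup.eq_bot_of_card_eq _ hn] using hg)
  obtain ⟨⟨z, hz⟩, hz2⟩ := exists_prime_orderOf_dvd_card' 2 hd
  rw [Subgroup.orderOf_mk] at hz2
  exact ⟨z, hz, Invol.ne_one hz2, Invol.inv_mul_self hz2⟩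

/-- The two-core of an involution centralizer without core contains its centralizer. -/
theorem core_self (h : OrdSix G) {z g : G} (hz : z * z = 1) (hz1 : z ≠ 1)
    (hcore : Cfsg.oddCore (centralizer ({z} : Set G)) = ⊥) (hg : Commute g z)
    (hc : ∀ r ∈ cR 2 z, Commute g r) : g ∈ cR 2 z := by
  haveI : Fact (Nat.Prime 2) := ⟨Nat.prime_two⟩
  haveI := h.isSolvable_centralizer (Invol.orderOf_eq_two_of hz1 hz)
  refine ⟨⟨g, mem_centralizer_singleton_iff.2 hg.eq⟩,
    Core.centralizer_pCore_le_of_isPSolvable Core.isPSolvable_of_isSolvable hcore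
      (mem_centralizer_iff.2 fun x hx => Subtype.ext (hc _ ⟨x, hx, rfl⟩).eq.symm), rfl⟩

end Cfsg.Lib.Recog.OrderSix.Six
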