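import Cfsg.Agent.Lib.Recog.OrderSix.Six.Defs
import Cfsg.Agent.Lib.Recog.OrderSix.Trees.Sound

/-!
# Element orders at most six: the letters of the case trees in four generators
-/

set_option autoImplicit false
set_option linter.unusedSectionVars false

namespace Cfsg.Lib.Recog.OrderSix.Six

open Cfsg.Lib.Recog.OrderSix.Trees

variable {G : Type*} [Group G]

/-- The letters of four generators and their inverses. -/
def letters (a b c d : G) : ℕ → G := fun g => [a, b, c, d, a⁻¹, b⁻¹, c⁻¹, d⁻¹].getD g 1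

theorem paired_letters (a b c d : G) : Cfsg.Lib.CosetEnum.Signed.Paired 4 (letters a b c d) := fun g hg => by
  interval_cases g <;> simp [letters]

theorem prodW_letters (a b c d : G) {w : List ℕ} (hw : ∀ g ∈ w, g < 8) :
    prodW (letters a b c d) w = (w.map (letters a b c d)).prod := by
  rw [prodW]
  congr 1
  refine List.map_congr_left fun g hg => ?_
  have := hw g hg
  simp only [Cfsg.Lib.CosetEnum.gen]
  rw [if_neg (by simp [Cfsg.Lib.CosetEnum.eps]; omega)]

theorem ord_cases [Finite G] (h : OrdSix G) (g : G) :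
    g ^ 1 = 1 ∨ g ^ 2 = 1 ∨ g ^ 3 = 1 ∨ g ^ 4 = 1 ∨ g ^ 5 = 1 ∨ g ^ 6 = 1 := by
  rcases h.pow_cases g with e | e | e | e | e | e <;> simp_all

theorem sq_mul_of_commute {a b : G} (ha : a * a = 1) (hb : b * b = 1) (hc : Commute a b) : (a * b) ^ 2 = 1 := by
  rw [pow_two, hc.symm.mul_mul_mul_comm, ha, hb, one_mul]

end Cfsg.Lib.Recog.OrderSix.Six
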