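import Cfsg.Agent.Lib.Recog.OrderSix.Six.CertEnv
import Cfsg.Agent.Lib.Recog.OrderSix.Trees.TreeB

/-!
# Element orders at most six: the second enumeration
-/

set_option autoImplicit false
set_option linter.unusedSectionVars false

namespace Cfsg.Lib.Recog.OrderSix.Six

open Cfsg.Lib.Recog.OrderSix.Trees

section Letters

variable {G : Type*} [Group G]

/-- The letters of three generators and their inverses. -/
def letters3 (a b c : G) : ℕ → G := fun g => [a, b, c, a⁻¹, b⁻¹, c⁻¹].getD g 1

theorem paired_letters3 (a b c : G) : Cfsg.Lib.CosetEnum.Signed.Paired 3 (letters3 a b c) := fun g hg => by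
  interval_cases g <;> simp [letters3]

theorem prodW_letters3 (a b c : G) {w : List ℕ} (hw : ∀ g ∈ w, g < 6) :
    prodW (letters3 a b c) w = (w.map (letters3 a b c)).prod := by
  rw [prodW]
  congr 1
  refine List.map_congr_left fun g hg => ?_
  have := hw g hg
  simp only [Cfsg.Lib.CosetEnum.gen]
  rw [if_neg (by simp [Cfsg.Lib.CosetEnum.eps]; omega)]

end Letters

universe u

variable {G : Type u} [Group G] [Finite G]

theorem enum_five (h : OrdSix G) {z x y : G} (hz : z * z = 1) (hx : x ^ 3 = 1) (hx1 : x ≠ 1)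
    (hzx : z * x * z⁻¹ = x⁻¹) (hy : y ^ 3 = 1) (_hy1 : y ≠ 1) (hc : Central z y) :
    Five z x y ∧ fiveW x y * fiveW x y = 1 ∧ Commute (fiveW x y) z ∧
      fiveW x y * y * (fiveW x y)⁻¹ = y⁻¹ := by
  have hE : Env TreeB.spec (letters3 z x y) :=
    { bound := by simp [TreeB.spec, Cfsg.Lib.CosetEnum.eps]
      paired := paired_letters3 z x y
      ord := ord_cases h
      pure := fun g hg => by simp [TreeB.spec] at hg
      invol := fun i j hij g hgy hg => by
        simp only [TreeB.spec, Option.some.injEq, Prod.mk.injEq] at hij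
        obtain ⟨rfl, rfl⟩ := hij
        exact sq_mul_of_commute hz hg (hc.invol g hg hgy).symm
      conj := fun i j hij g hgy => by
        simp only [TreeB.spec, Option.some.injEq, Prod.mk.injEq] at hij
        obtain ⟨rfl, rfl⟩ := hij
        refine sq_mul_of_commute hz ?_ (hc.conj g hgy)
        show g * z * g⁻¹ * (g * z * g⁻¹) = 1
        rw [show g * z * g⁻¹ * (g * z * g⁻¹) = g * (z * z) * g⁻¹ by group, hz, mul_one, mul_inv_cancel]
      four := fun g hg => by simp [TreeB.spec] at hg }
  have hx3 : x * (x * x) = 1 := by rw [← hx]; simp [pow_succ, mul_assoc]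
  have hy3 : y * (y * y) = 1 := by rw [← hy]; simp [pow_succ, mul_assoc]
  have hR : ∀ r ∈ TreeB.rels, prodW (letters3 z x y) r = 1 := by
    have e1 : z * x * z⁻¹ * x = 1 := by rw [hzx, inv_mul_cancel]
    have e2 : z * y * z⁻¹ * y⁻¹ = 1 := by rw [hc.commute.eq, mul_inv_cancel_right, mul_inv_cancel]
    simp only [mul_assoc] at e1 e2
    simp [TreeB.rels, prodW_letters3, letters3, hz, hx3, hy3, e1, e2]
  obtain ⟨T, hT, hall⟩ := Tree.sound hE TreeB.tree_ok hR
  simp only [TreeB.spec, List.mem_cons, List.not_mem_nil, or_false] at hT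
  rcases hT with rfl | rfl
  · exact absurd (by simpa [prodW_letters3, letters3] using hall [1] (by simp)) hx1
  · have h1 := hall _ (List.Mem.head _)
    have h2 := hall _ (List.Mem.tail _ (List.Mem.head _))
    have h3 := hall _ (List.Mem.tail _ (List.Mem.tail _ (List.Mem.head _)))
    have h4 := hall _ (List.Mem.tail _ (List.Mem.tail _ (List.Mem.tail _ (List.Mem.head _))))
    have h5 := hall _ (List.Mem.tail _ (List.Mem.tail _ (List.Mem.tail _ (List.Mem.tail _ (List.Mem.head _)))))
    have h6 := hall _ (List.Mem.tail _ (List.Mem.tail _ (List.Mem.tail _ (List.Mem.tail _ (List.Mem.tail _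
      (List.Mem.head _))))))
    simp [prodW_letters3, letters3] at h1 h2 h3 h4 h5 h6
    refine ⟨⟨?_, ?_, ?_⟩, ?_, ?_, ?_⟩
    · simpa [pow_succ, mul_assoc] using h1
    · simpa [pow_succ, mul_assoc] using h2
    · simpa [pow_succ, mul_assoc] using h3
    · simpa [fiveW, mul_assoc] using h4
    · exact mul_inv_eq_iff_eq_mul.1 (mul_inv_eq_one.1 (by simpa [fiveW, mul_assoc] using h5))
    · exact eq_inv_of_mul_eq_one_left (by simpa [fiveW, mul_assoc] using h6)

end Cfsg.Lib.Recog.OrderSix.Six
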