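import Cfsg.Agent.Lib.Recog.OrderSix.Six.CertEnv
import Cfsg.Agent.Lib.Recog.OrderSix.Trees.TreeC

/-!
# Element orders at most six: the third enumeration
-/

set_option autoImplicit false
set_option linter.unusedSectionVars false

namespace Cfsg.Lib.Recog.OrderSix.Six

open Cfsg.Lib.Recog.OrderSix.Trees

universe u

variable {G : Type u} [Group G] [Finite G]

theorem enum_four (h : OrdSix G) {z x y a : G} (hz : z * z = 1) (hx : x ^ 3 = 1) (hzx : z * x * z⁻¹ = x⁻¹)
    (hy : y ^ 3 = 1) (hc : Central z y) (h5 : Five z x y) (ha : a * a = 1) (haz : Commute a z)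
    (haw : Commute a (fiveW x y)) (hay : Commute a (y * a * y⁻¹))
    (hprod : a * (y * a * y⁻¹) * (y⁻¹ * a * y) = 1) : a = 1 := by
  have hE : Env TreeC.spec (letters z x y a) :=
    { bound := by simp [TreeC.spec, Cfsg.Lib.CosetEnum.eps]
      paired := paired_letters z x y a
      ord := ord_cases h
      pure := fun g hg => by simp [TreeC.spec] at hg
      invol := fun i j hij g hgy hg => by
        simp only [TreeC.spec, Option.some.injEq, Prod.mk.injEq] at hij
        obtain ⟨rfl, rfl⟩ := hij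
        exact sq_mul_of_commute hz hg (hc.invol g hg hgy).symm
      conj := fun i j hij g hgy => by
        simp only [TreeC.spec, Option.some.injEq, Prod.mk.injEq] at hij
        obtain ⟨rfl, rfl⟩ := hij
        refine sq_mul_of_commute hz ?_ (hc.conj g hgy)
        show g * z * g⁻¹ * (g * z * g⁻¹) = 1
        rw [show g * z * g⁻¹ * (g * z * g⁻¹) = g * (z * z) * g⁻¹ by group, hz, mul_one, mul_inv_cancel]
      four := fun g hg => by simp [TreeC.spec] at hg }
  have hx3 : x * (x * x) = 1 := by rw [← hx]; simp [pow_succ, mul_assoc]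
  have hy3 : y * (y * y) = 1 := by rw [← hy]; simp [pow_succ, mul_assoc]
  have hR : ∀ r ∈ TreeC.rels, prodW (letters z x y a) r = 1 := by
    have e1 : z * x * z⁻¹ * x = 1 := by rw [hzx, inv_mul_cancel]
    have e2 : z * y * z⁻¹ * y⁻¹ = 1 := by rw [hc.commute.eq, mul_inv_cancel_right, mul_inv_cancel]
    have e3 : a * z * a⁻¹ * z⁻¹ = 1 := by rw [haz.eq, mul_inv_cancel_right, mul_inv_cancel]
    have e4 : a * fiveW x y * a⁻¹ * (fiveW x y)⁻¹ = 1 := by rw [haw.eq, mul_inv_cancel_right, mul_inv_cancel]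
    have e5 : a * (y * a * y⁻¹) * a⁻¹ * (y * a * y⁻¹)⁻¹ = 1 := by
      rw [hay.eq, mul_inv_cancel_right, mul_inv_cancel]
    have h1 := h5.yx
    have h2 := h5.yx'
    have h3 := h5.yzx
    simp only [fiveW, mul_inv_rev, inv_inv, mul_assoc] at e1 e2 e3 e4 e5 hprod
    simp only [pow_succ, pow_zero, one_mul, mul_assoc] at h1 h2 h3
    simp [TreeC.rels, prodW_letters, letters, hz, ha, hx3, hy3, e1, e2, e3, e4, e5, hprod, h1, h2, h3]
  obtain ⟨T, hT, hall⟩ := Tree.sound hE TreeC.tree_ok hR
  simp [TreeC.spec] at hT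
  subst hT
  simpa [prodW_letters, letters] using hall [3] (by simp)

end Cfsg.Lib.Recog.OrderSix.Six
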