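import Cfsg.Agent.Lib.Recog.OrderSix.Six.Basic
import Cfsg.Agent.Lib.Coprime.PGroupAction
import Cfsg.Agent.Lib.ZStar.Main
import Mathlib.GroupTheory.FixedPointFree

/-!
# Element orders at most six: an involution inverting no element of order three is not in the two-core
of the centralizer of an element of order three
-/

set_option autoImplicit false
set_option linter.unusedSectionVars false
set_option linter.style.haveILetI false

namespace Cfsg.Lib.Recog.OrderSix.Six

open Subgroup
open Cfsg.Lib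

universe u

variable {G : Type u} [Group G] [Finite G]

/-- The statement of the first enumeration. -/
def EnumPure (G : Type u) [Group G] : Prop :=
  ∀ z v y : G, z * z = 1 → v * v = 1 → (z * v) ^ 5 = 1 → z * v ≠ 1 → y ^ 3 = 1 → Pure z → Central z y →
    Commute (z * v) (y * (z * v) * y⁻¹)

namespace PureCase

/-- `g` normalizes the centralizer of `f`. -/
def Nrm (f g : G) : Prop := ∀ p : G, Commute p f → Commute (g * p * g⁻¹) f

theorem Nrm.mul {f a b : G} (ha : Nrm f a) (hb : Nrm f b) : Nrm f (a * b) := fun p hp => by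
  rw [show a * b * p * (a * b)⁻¹ = a * (b * p * b⁻¹) * a⁻¹ by group]
  exact ha _ (hb p hp)

theorem eq_one_of_five_two (h : OrdSix G) {a s : G} (ha : a ^ 5 = 1) (hs : s * s = 1) (hs1 : s ≠ 1)
    (hc : Commute a s) : a = 1 := by
  by_contra ha1
  haveI : Fact (Nat.Prime 5) := ⟨by norm_num⟩
  have := h.not_commute_five (orderOf_eq_prime ha ha1) hs1 hc
  rw [Invol.orderOf_eq_two_of hs1 hs] at this
  omega

theorem cent_five (h : OrdSix G) {z f : G} (hz : z * z = 1) (hz1 : z ≠ 1) (hf : orderOf f = 5)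
    (hi : z * f * z⁻¹ = f⁻¹) :
    (∀ a b : G, Commute a f → Commute b f → Commute a b) := by
  set C := centralizer ({f} : Set G)
  have hmem : ∀ p : G, Commute p f → Commute (z * p * z⁻¹) f := fun p hp => by
    have := (hp.map (MulAut.conj z).toMonoidHom)
    simp only [MulEquiv.coe_toMonoidHom, MulAut.conj_apply, hi] at this
    simpa using this.inv_right
  let φ : C →* C :=
    { toFun := fun a => ⟨z * a * z⁻¹,
        mem_centralizer_singleton_iff.2 (hmem a (mem_centralizer_singleton_iff.1 a.2)).eq⟩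
      map_one' := Subtype.ext (by simp)
      map_mul' := fun a b => Subtype.ext (by simp [mul_assoc]) }
  have hφ : MonoidHom.FixedPointFree φ := fun a ha => Subtype.ext <| by
    have h5 := h.five_commute hf (show Commute f (a : G) from (mem_centralizer_singleton_iff.1 a.2).symm)
    exact eq_one_of_five_two h h5 hz hz1 (mul_inv_eq_iff_eq_mul.1 (congrArg Subtype.val ha)).symm
  have hinv : Function.Involutive φ := fun a => Subtype.ext (by
    show z * (z * (a : G) * z⁻¹) * z⁻¹ = a
    rw [inv_eq_of_mul_eq_one_left hz, show z * (z * (a : G) * z) * z = z * z * a * (z * z) by group,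
      hz, one_mul, mul_one])
  intro a b ha hb
  exact congrArg Subtype.val (hφ.commute_all_of_involutive hinv ⟨a, mem_centralizer_singleton_iff.2 ha.eq⟩
    ⟨b, mem_centralizer_singleton_iff.2 hb.eq⟩).eq

theorem central (h : OrdSix G) {z y : G} (hz : z * z = 1) (hp : Pure z) (hy : orderOf y = 3)
    (hc : Commute z y) : Central z y :=
  central_of_mem h hy (pure_mem_core h (not_five_dvd_three h hy) hz hp hc) hz

/-- Elements of order three commuting with `z` normalize the centralizer of an inverted element of order five. -/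
theorem nrm_three (h : OrdSix G) (henum : EnumPure G) {z f : G} (hz : z * z = 1) (hz1 : z ≠ 1) (hp : Pure z)
    (hf : orderOf f = 5) (hi : z * f * z⁻¹ = f⁻¹) {y : G} (hy : orderOf y = 3) (hc : Commute z y) :
    Nrm f y := by
  have hz' : z⁻¹ = z := inv_eq_of_mul_eq_one_left hz
  have hzf : z * (z * f) = f := by rw [← mul_assoc, hz, one_mul]
  have hv : z * f * (z * f) = 1 := by
    calc z * f * (z * f) = z * f * z⁻¹ * f := by rw [hz']; group
      _ = 1 := by rw [hi, inv_mul_cancel]
  have hcom := henum z (z * f) y hz hv (by rw [hzf, ← hf, pow_orderOf_eq_one])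
    (by rw [hzf]; intro e; rw [e, orderOf_one] at hf; omega) (hy ▸ pow_orderOf_eq_one y) hp
    (central h hz hp hy hc)
  rw [hzf] at hcom
  intro p hpf
  have hf' : orderOf (y * f * y⁻¹) = 5 := by rw [Invol.orderOf_conj_eq, hf]
  have hi' : z * (y * f * y⁻¹) * z⁻¹ = (y * f * y⁻¹)⁻¹ := by
    rw [show z * (y * f * y⁻¹) * z⁻¹ = (z * y) * f * (z * y)⁻¹ by group, hc.eq,
      show y * z * f * (y * z)⁻¹ = y * (z * f * z⁻¹) * y⁻¹ by group, hi]
    group
  exact cent_five h hz hz1 hf' hi' _ _ (hpf.map (MulAut.conj y).toMonoidHom) hcom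

/-- The only involution commuting with `z` and normalizing the centralizer of `f` is `z`. -/
theorem eq_of_nrm (h : OrdSix G) {z f u : G} (hz : z * z = 1) (hz1 : z ≠ 1) (hf : orderOf f = 5)
    (hi : z * f * z⁻¹ = f⁻¹) (hu : u * u = 1) (hu1 : u ≠ 1) (huz : Commute u z) (hn : Nrm f u) : u = z := by
  have hu' : u⁻¹ = u := inv_eq_of_mul_eq_one_left hu
  set q := u * f * u⁻¹ with hq
  have hqf : Commute q f := hn f (Commute.refl f)
  have hqu : Commute (f * q) u := by
    show f * q * u = u * (f * q)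
    calc f * q * u = q * f * u := by rw [hqf.eq]
      _ = u * (f * q) := by rw [hq, hu']; group
  have h5 : (f * q) ^ 5 = 1 := h.five_commute hf ((Commute.refl f).mul_right hqf.symm)
  have hq1 : q = f⁻¹ := eq_inv_of_mul_eq_one_right (eq_one_of_five_two h h5 hu hu1 hqu)
  have hzu : Commute (z * u) f := by
    show z * u * f = f * (z * u)
    calc z * u * f = z * (u * f * u⁻¹) * u := by group
      _ = z * f⁻¹ * z⁻¹ * (z * u) := by rw [← hq, hq1]; group
      _ = (z * f * z⁻¹)⁻¹ * (z * u) := by group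
      _ = f * (z * u) := by rw [hi, inv_inv]
  have h5' := h.five_commute hf hzu.symm
  have h2 : (z * u) ^ 2 = 1 := by rw [pow_two]; exact sq_of_commute hz hu huz.symm
  have h1 : z * u = 1 := by
    calc z * u = (z * u) ^ (5 : ℕ) * ((z * u) ^ 2)⁻¹ * ((z * u) ^ 2)⁻¹ := by group
      _ = 1 := by rw [h5', h2]; group
  calc u = z * (z * u) := by rw [← mul_assoc, hz, one_mul]
    _ = z := by rw [h1, mul_one]

theorem exists_five [IsSimpleGroup G] (hna : ¬ IsMulCommutative G) (h : OrdSix G) {z : G}
    (hz : z * z = 1) (hz1 : z ≠ 1) (hp : Pure z) : ∃ f : G, orderOf f = 5 ∧ z * f * z⁻¹ = f⁻¹ := by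
  haveI : Fact (Nat.Prime 2) := ⟨Nat.prime_two⟩
  obtain ⟨f, hf1, hodd, hi⟩ := Invol.exists_inverted_odd (Invol.orderOf_eq_two_of hz1 hz) fun N hN hN2 hzN => by
    rcases hN.eq_bot_or_eq_top with e | e
    · exact hz1 (by simpa [e] using hzN)
    · subst e
      haveI := (hN2.of_equiv Subgroup.topEquiv).isNilpotent
      exact hna ⟨⟨IsSimpleGroup.comm_iff_isSolvable.2 inferInstance⟩⟩
  refine ⟨f, ?_, hi⟩
  have h6 := h f
  have h0 := orderOf_pos f
  have h1 : orderOf f ≠ 1 := fun e => hf1 (orderOf_eq_one_iff.1 e)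
  have h3 : orderOf f ≠ 3 := fun e => hf1 (hp f (e ▸ pow_orderOf_eq_one f) hi)
  interval_cases ho : orderOf f <;> simp_all (config := { decide := true })

/-- A pure involution commuting with `z` commutes with the elements of order three of its centralizer. -/
theorem commute_three (h : OrdSix G) (henum : EnumPure G) {z f w : G} (hz : z * z = 1) (hz1 : z ≠ 1)
    (hp : Pure z) (hf : orderOf f = 5) (hi : z * f * z⁻¹ = f⁻¹) (hw : w * w = 1) (hpw : Pure w)
    (hwz : Commute w z) {y : G} (hy : orderOf y = 3) (hc : Commute z y) : Commute w y := by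
  have hw' : w⁻¹ = w := inv_eq_of_mul_eq_one_left hw
  have hy3 : y ^ 3 = 1 := hy ▸ pow_orderOf_eq_one y
  set b := y * w * y⁻¹ with hb
  set c := y * b * y⁻¹ with hcdef
  have hbb : b * b = 1 := by rw [hb, show y * w * y⁻¹ * (y * w * y⁻¹) = y * (w * w) * y⁻¹ by group, hw]; group
  have hya : y * c * y⁻¹ = w := by
    rw [hcdef, hb, show y * (y * (y * w * y⁻¹) * y⁻¹) * y⁻¹ = y ^ 3 * w * (y ^ 3)⁻¹ by
      simp [pow_succ, mul_assoc], hy3]
    group
  set d := w * b with hd
  have hde : d = w * y * w⁻¹ * (y * y) := by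
    rw [hd, hb, hw', show y⁻¹ = y * y from inv_eq_of_mul_eq_one_left (by rw [← hy3]; simp [pow_succ, mul_assoc])]
    group
  have hny := nrm_three h henum hz hz1 hp hf hi hy hc
  have hnd : Nrm f d := by
    rw [hde]
    exact (nrm_three h henum hz hz1 hp hf hi (by rw [Invol.orderOf_conj_eq, hy])
      ((hwz.symm.mul_right hc).mul_right hwz.symm.inv_right)).mul (hny.mul hny)
  have hbz : Commute b z := (hc.symm.mul_left hwz).mul_left hc.symm.inv_left
  have hdz : Commute d z := hwz.mul_left hbz
  have key : ∀ e : G, e * e = 1 → Nrm f e → Commute e z → e = 1 ∨ e = z := fun e he hn hez =>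
    (em (e = 1)).imp_right fun he1 => eq_of_nrm h hz hz1 hf hi he he1 hez hn
  have hd4 : d ^ 4 = 1 := by
    rcases hpw.product h hw hbb with e | e
    · exact e
    · rw [eq_one_of_five_two h (show d ^ 5 = 1 from e) hz hz1 hdz, one_pow]
  have hdd : d * d * (d * d) = 1 := by rw [← hd4]; simp [pow_succ, mul_assoc]
  rcases key _ hdd (hnd.mul hnd) (hdz.mul_left hdz) with h2 | h2
  · rcases key d h2 hnd hdz with e | e
    · have hwb : w = b := by rw [← hw', inv_eq_of_mul_eq_one_right (hd ▸ e)]
      show w * y = y * w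
      calc w * y = b * y := by rw [← hwb]
        _ = y * w := by rw [hb, inv_mul_cancel_right]
    · exfalso
      have hbw : b = w * z := by rw [← e, hd, ← mul_assoc, hw, one_mul]
      have hzc : y * z * y⁻¹ = z := by rw [← hc.eq, mul_inv_cancel_right]
      have hc' : c = w := by
        rw [hcdef, hbw, show y * (w * z) * y⁻¹ = b * (y * z * y⁻¹) by rw [hb]; group, hzc, hbw, mul_assoc, hz, mul_one]
      rw [hc', ← hb, hbw] at hya
      exact hz1 (mul_eq_left.1 hya)
  · exfalso
    have hzy : y * z * y⁻¹ = z := by rw [← hc.eq, mul_inv_cancel_right]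
    have h2' : w * b * (w * b) = z := h2
    have hbc : b * c * (b * c) = z := by
      calc b * c * (b * c) = y * (w * b * (w * b)) * y⁻¹ := by rw [hcdef, hb]; group
        _ = z := by rw [h2', hzy]
    have hca : c * w * (c * w) = z := by
      calc c * w * (c * w) = y * b * y⁻¹ * (y * c * y⁻¹) * (y * b * y⁻¹ * (y * c * y⁻¹)) := by rw [hya, ← hcdef]
        _ = y * (b * c * (b * c)) * y⁻¹ := by group
        _ = z := by rw [hbc, hzy]
    have hcc : c * c = 1 := by
      rw [hcdef, show y * b * y⁻¹ * (y * b * y⁻¹) = y * (b * b) * y⁻¹ by group, hbb]; group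
    have hcz : Commute c z := (hc.symm.mul_left hbz).mul_left hc.symm.inv_left
    have swap : ∀ p q : G, p * p = 1 → q * q = 1 → Commute p z → Commute q z → p * q * (p * q) = z →
        p * q = z * (q * p) := fun p q hpp hqq _ _ he => by
      calc p * q = p * q * (p * q) * (p * q)⁻¹ := by group
        _ = z * (q * p) := by
          rw [he, mul_inv_rev, inv_eq_of_mul_eq_one_left hqq, inv_eq_of_mul_eq_one_left hpp]
    set m := w * b * c with hm
    have hrot : b * c * w = m := by
      calc b * c * w = b * (c * w) := mul_assoc _ _ _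
        _ = b * (z * (w * c)) := by rw [swap c w hcc hw hcz hwz hca]
        _ = z * (b * w) * c := by rw [← mul_assoc b z, hbz.eq]; group
        _ = m := by rw [← swap w b hw hbb hwz hbz h2']
    have hmy : y * m * y⁻¹ = m := by
      calc y * m * y⁻¹ = b * c * (y * c * y⁻¹) := by rw [hm, hcdef, hb]; group
        _ = m := by rw [hya, hrot]
    have hmm : m * m = z := by
      calc m * m = w * (b * c * w) * (b * c) := by rw [hm]; group
        _ = w * (w * b * c) * (b * c) := by rw [hrot]
        _ = (w * w) * (b * c * (b * c)) := by group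
        _ = z := by rw [hw, hbc, one_mul]
    refine h.not_commute_four ?_ hy ((mul_inv_eq_iff_eq_mul.1 hmy).symm : Commute m y)
    haveI : Fact (Nat.Prime 2) := ⟨Nat.prime_two⟩
    exact orderOf_eq_prime_pow (p := 2) (n := 1) (by rw [pow_one, pow_two, hmm]; exact hz1)
      (by rw [show (2 : ℕ) ^ (1 + 1) = 2 * 2 from rfl, pow_mul, pow_two m, hmm, pow_two, hz])

/-- Two commuting pure involutions centralizing a common element of order three are equal. -/
theorem eq_of_common [IsSimpleGroup G] (hna : ¬ IsMulCommutative G) (h : OrdSix G) (henum : EnumPure G)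
    (hcore : ∀ t : G, orderOf t = 2 → Cfsg.oddCore (centralizer ({t} : Set G)) = ⊥) {z w y : G}
    (hz : z * z = 1) (hz1 : z ≠ 1) (hp : Pure z) (hw : w * w = 1) (hw1 : w ≠ 1) (hpw : Pure w)
    (hwz : Commute w z) (hy : orderOf y = 3) (hzy : Commute z y) (hwy : Commute w y) : w = z := by
  haveI : Fact (Nat.Prime 2) := ⟨Nat.prime_two⟩
  obtain ⟨f, hf, hfi⟩ := exists_five hna h hz hz1 hp
  obtain ⟨f', hf', hfi'⟩ := exists_five hna h hw hw1 hpw
  set V := cR 2 z
  have hVn : ∀ c : G, Commute c z → c ∈ normalizer (V : Set G) := fun c hc =>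
    mem_normalizer_fintype fun r hr => conj_mem_cR hc hr
  have hex : ∃ r ∈ V, Commute r w ∧ ¬ Commute r y := by
    by_contra hne
    push Not at hne
    have hb := Coprime.commutator_eq_bot_of_AxB (p := 2) V (zpowers w) (zpowers y) (isPGroup_cR 2 z)
      (IsPGroup.of_card (n := 1) (by rw [Nat.card_zpowers, Invol.orderOf_eq_two_of hw1 hw, pow_one]))
      (by rw [Nat.card_zpowers, hy]; decide) (zpowers_le.2 (hVn w hwz)) (zpowers_le.2 (hVn y hzy.symm))
      (zpowers_le.2 (mem_centralizer_iff.2 fun a ha => by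
        obtain ⟨k, rfl⟩ := ha; exact (hwy.zpow_left k).eq))
      (fun r hr => mem_centralizer_iff.2 fun a ha => by
        obtain ⟨k, rfl⟩ := ha
        exact ((hne r hr.1 (mem_centralizer_iff.1 hr.2 w (mem_zpowers w)).symm).zpow_right k).eq.symm)
    have := core_self h hz hz1 (hcore z (Invol.orderOf_eq_two_of hz1 hz)) hzy.symm fun r hr => by
      have h1 := Subgroup.commutator_mem_commutator hr (mem_zpowers y)
      rw [hb, mem_bot, commutatorElement_eq_one_iff_mul_comm] at h1
      exact h1.symm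
    obtain ⟨k, hk⟩ := isPGroup_cR 2 z ⟨y, this⟩
    have h2 : orderOf y ∣ 2 ^ k := orderOf_dvd_of_pow_eq_one (congrArg Subtype.val hk)
    rw [hy] at h2
    have := Nat.prime_three.dvd_of_dvd_pow h2
    omega
  obtain ⟨r, hr, hrw, hry⟩ := hex
  have hrz : Commute r z := commute_of_mem_cR hr
  set e := r * y * r⁻¹ * (y * y) with he
  have hy2 : y * y = y⁻¹ := eq_inv_of_mul_eq_one_left (by
    rw [show y * y * y = y ^ 3 by simp [pow_succ, mul_assoc], ← hy, pow_orderOf_eq_one])
  have he1 : e ≠ 1 := fun e1 => hry (by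
    rw [he, hy2, mul_inv_eq_one, mul_inv_eq_iff_eq_mul] at e1
    exact e1)
  have heV : e ∈ V := by
    rw [he, hy2, show r * y * r⁻¹ * y⁻¹ = r * (y * r⁻¹ * y⁻¹) by group]
    exact mul_mem hr (conj_mem_cR hzy.symm (inv_mem hr))
  have hez : Commute e z := commute_of_mem_cR heV
  have hew : Commute e w := (((hrw.mul_left hwy.symm).mul_left hrw.inv_left)).mul_left (hwy.symm.mul_left hwy.symm)
  have hn : ∀ {x g : G}, x * x = 1 → x ≠ 1 → Pure x → orderOf g = 5 → x * g * x⁻¹ = g⁻¹ →
      Commute x y → Commute r x → Nrm g e := fun hx hx1 hpx hg hgi hxy hrx =>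
    have h1 := nrm_three h henum hx hx1 hpx hg hgi hy hxy
    (nrm_three h henum hx hx1 hpx hg hgi (by rw [Invol.orderOf_conj_eq, hy])
      ((hrx.symm.mul_right hxy).mul_right hrx.symm.inv_right)).mul (h1.mul h1)
  have hnz := hn hz hz1 hp hf hfi hzy hrz
  have hnw := hn hw hw1 hpw hf' hfi' hwy hrw
  obtain ⟨k, hk⟩ := isPGroup_cR 2 z ⟨e, heV⟩
  obtain ⟨j, -, hj⟩ := (Nat.dvd_prime_pow Nat.prime_two).1
    (orderOf_dvd_of_pow_eq_one (show e ^ 2 ^ k = 1 from congrArg Subtype.val hk))
  have h4 := h.two_pow_four hj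
  by_cases h2 : e * e = 1
  · rw [← eq_of_nrm h hz hz1 hf hfi h2 he1 hez hnz, eq_of_nrm h hw hw1 hf' hfi' h2 he1 hew hnw]
  · have h22 : e * e * (e * e) = 1 := by rw [← h4]; simp [pow_succ, mul_assoc]
    rw [← eq_of_nrm h hz hz1 hf hfi h22 h2 (hez.mul_left hez) (hnz.mul hnz),
      eq_of_nrm h hw hw1 hf' hfi' h22 h2 (hew.mul_left hew) (hnw.mul hnw)]

/-- A pure involution centralizes no element of order three. -/
theorem main [IsSimpleGroup G] (hna : ¬ IsMulCommutative G) (h : OrdSix G) (henum : EnumPure G)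
    (hO : Cfsg.oddCore G = ⊥)
    (hcore : ∀ t : G, orderOf t = 2 → Cfsg.oddCore (centralizer ({t} : Set G)) = ⊥) {z y : G}
    (hz : z * z = 1) (hz1 : z ≠ 1) (hp : Pure z) (hy : orderOf y = 3) (hzy : Commute z y) : False := by
  obtain ⟨f, hf, hfi⟩ := exists_five hna h hz hz1 hp
  have hz2 := Invol.orderOf_eq_two_of hz1 hz
  have hiso : Cfsg.IsIsolatedInvolution z := ⟨hz2, fun g hg => by
    have hw : g * z * g⁻¹ * (g * z * g⁻¹) = 1 := by
      rw [show g * z * g⁻¹ * (g * z * g⁻¹) = g * (z * z) * g⁻¹ by group, hz]; group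
    refine eq_of_common hna h henum hcore hz hz1 hp hw ?_ (hp.conj g) hg.symm hy hzy
      (commute_three h henum hz hz1 hp hf hfi hw (hp.conj g) hg.symm hy hzy)
    exact fun e => hz1 (by simpa using e)⟩
  have hmem := ZStar.mem_center_of_isolated hO hiso
  rcases (inferInstance : (center G).Normal).eq_bot_or_eq_top with e | e
  · exact hz1 (by simpa [e] using hmem)
  · exact hna ⟨⟨fun a b => (mem_center_iff.1 (e ▸ mem_top a) b).symm⟩⟩

end PureCase

end Cfsg.Lib.Recog.OrderSix.Six
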