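import Cfsg.Agent.Lib.Recog.OrderSix.Six.CertFive
import Cfsg.Agent.Lib.Recog.OrderSix.Six.PureCase
import Cfsg.Agent.Lib.Recog.OrderSix.Trees.TreeA

/-!
# Element orders at most six: the first enumeration
-/

set_option autoImplicit false
set_option linter.unusedSectionVars false

namespace Cfsg.Lib.Recog.OrderSix.Six

open Cfsg.Lib.Recog.OrderSix.Trees

universe u

variable {G : Type u} [Group G] [Finite G]

/-- Two involutions whose product has fifth power one are conjugate. -/
theorem eq_conj_of_five {z v : G} (hz : z * z = 1) (hv : v * v = 1) (hzv : (z * v) ^ 5 = 1) :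
    (z * v) ^ 2 * z * ((z * v) ^ 2)⁻¹ = v := by
  have hv' : v⁻¹ = v := inv_eq_of_mul_eq_one_left hv
  have hz' : z⁻¹ = z := inv_eq_of_mul_eq_one_left hz
  have h4 : (z * v) ^ 4 = (z * v)⁻¹ := eq_inv_of_mul_eq_one_left (by rw [← pow_succ]; exact hzv)
  have hc : z * ((z * v) ^ 2)⁻¹ = (z * v) ^ 2 * z := by
    rw [pow_two, mul_inv_rev, mul_inv_rev, hv', hz']
    simp [mul_assoc]
  rw [mul_assoc, hc, ← mul_assoc, ← pow_add, h4, mul_inv_rev, hv', hz', mul_assoc, hz, mul_one]

theorem enum_pure (h : OrdSix G) {z v y : G} (hz : z * z = 1) (hv : v * v = 1)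
    (hzv : (z * v) ^ 5 = 1) (_hne : z * v ≠ 1) (hy : y ^ 3 = 1) (hp : Pure z) (hc : Central z y) :
    Commute (z * v) (y * (z * v) * y⁻¹) := by
  have hpv : Pure v := eq_conj_of_five hz hv hzv ▸ hp.conj ((z * v) ^ 2)
  have hsq : ∀ {a : G}, a * a = 1 → ∀ g : G, g * a * g⁻¹ * (g * a * g⁻¹) = 1 := fun {a} ha g => by
    rw [show g * a * g⁻¹ * (g * a * g⁻¹) = g * (a * a) * g⁻¹ by group, ha, mul_one, mul_inv_cancel]
  have hE : Env TreeA.spec (letters3 z v y) :=
    { bound := by simp [TreeA.spec, Cfsg.Lib.CosetEnum.eps]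
      paired := paired_letters3 z v y
      ord := ord_cases h
      pure := fun a ha c s hs => by
        simp only [TreeA.spec, List.mem_cons, List.not_mem_nil, or_false] at ha
        rcases ha with rfl | rfl
        · exact (hp.conj c).product h (hsq hz c) hs
        · exact (hpv.conj c).product h (hsq hv c) hs
      invol := fun i j hij g hgy hg => by
        simp only [TreeA.spec, Option.some.injEq, Prod.mk.injEq] at hij
        obtain ⟨rfl, rfl⟩ := hij
        exact sq_mul_of_commute hz hg (hc.invol g hg hgy).symm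
      conj := fun i j hij g hgy => by
        simp only [TreeA.spec, Option.some.injEq, Prod.mk.injEq] at hij
        obtain ⟨rfl, rfl⟩ := hij
        exact sq_mul_of_commute hz (hsq hz g) (hc.conj g hgy)
      four := fun g hg => by simp [TreeA.spec] at hg }
  have hy3 : y * (y * y) = 1 := by rw [← hy]; simp [pow_succ, mul_assoc]
  have hR : ∀ r ∈ TreeA.rels, prodW (letters3 z v y) r = 1 := by
    have e2 : z * y * z⁻¹ * y⁻¹ = 1 := by rw [hc.commute.eq, mul_inv_cancel_right, mul_inv_cancel]
    have hz' : z⁻¹ = z := inv_eq_of_mul_eq_one_left hz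
    rw [hz'] at e2
    have e5 : z * v * (z * v) * (z * v) * (z * v) * (z * v) = 1 := by
      rw [← hzv]; simp [pow_succ, mul_assoc]
    simp only [mul_assoc] at e2 e5
    simp [TreeA.rels, prodW_letters3, letters3, hz, hv, hy3, e2, e5]
  obtain ⟨T, hT, hall⟩ := Tree.sound hE TreeA.tree_ok hR
  simp only [TreeA.spec, List.mem_cons, List.not_mem_nil, or_false] at hT
  subst hT
  have h1 := hall _ (List.Mem.head _)
  simp [prodW_letters3, letters3] at h1
  refine commutatorElement_eq_one_iff_commute.1 ?_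
  rw [commutatorElement_def]
  simpa [mul_assoc] using h1

/-- The first enumeration. -/
theorem enumPure (h : OrdSix G) : EnumPure G := fun _ _ _ hz hv hzv hne hy hp hc =>
  enum_pure h hz hv hzv hne hy hp hc

end Cfsg.Lib.Recog.OrderSix.Six
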