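import Cfsg.Agent.Lib.Recog.OrderSix.Six.CertEnv
import Cfsg.Agent.Lib.Recog.OrderSix.Six.Basic
import Cfsg.Agent.Lib.Recog.OrderSix.Trees.TreeD

/-!
# Element orders at most six: the fourth enumeration
-/

set_option autoImplicit false
set_option linter.unusedSectionVars false

namespace Cfsg.Lib.Recog.OrderSix.Six

open Cfsg.Lib.Recog.OrderSix.Trees

universe u

variable {G : Type u} [Group G] [Finite G]

theorem enum_six (h : OrdSix G) (hA : NoA4 G) {t x y a : G} (ht : t * t = 1) (hx : x ^ 3 = 1) (hy : y ^ 3 = 1)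
    (htx : t * x * t⁻¹ = x⁻¹) (hty : Commute t y) (hxy : Commute x y) (ha : a * a = 1) (hat : Commute a t)
    (hay : Commute a (y * a * y⁻¹)) (hprod : a * (y * a * y⁻¹) * (y⁻¹ * a * y) = 1) :
    x = 1 ∨ a = 1 ∨ Commute a x ∨ ∃ t' s, t' * t' = 1 ∧ Commute t t' ∧ Commute t' x ∧
      t' * y * t'⁻¹ = y⁻¹ ∧ s * s = 1 ∧ s * t * s⁻¹ = t' ∧ s * x * s⁻¹ = y ∧ s * y * s⁻¹ = x := by
  by_cases hx1 : x = 1
  · exact Or.inl hx1
  by_cases hy1 : y = 1
  · subst hy1
    simp only [one_mul, inv_one, mul_one, ha] at hprod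
    exact Or.inr (Or.inl hprod)
  have hx3 : x * (x * x) = 1 := by rw [← hx]; simp [pow_succ, mul_assoc]
  have hy3 : y * (y * y) = 1 := by rw [← hy]; simp [pow_succ, mul_assoc]
  have hno : Commute t x → False := fun hc => by
    rw [hc.eq, mul_inv_cancel_right] at htx
    refine hx1 ?_
    calc x = x ^ 3 * (x * x)⁻¹ := by simp [pow_succ, mul_assoc]
      _ = 1 := by
        conv_lhs => arg 2; arg 1; arg 2; rw [htx]
        rw [hx, mul_inv_cancel, inv_one, mul_one]
  have hxy1 : x * y ≠ 1 := fun e => hno (eq_inv_of_mul_eq_one_left e ▸ hty.inv_right)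
  have hxy2 : x * y⁻¹ ≠ 1 := fun e => hno (mul_inv_eq_one.1 e ▸ hty)
  have hE : Env TreeD.spec (letters t x y a) :=
    { bound := by simp [TreeD.spec, Cfsg.Lib.CosetEnum.eps]
      paired := paired_letters t x y a
      ord := ord_cases h
      pure := fun g hg => by simp [TreeD.spec] at hg
      invol := fun i j hij => by simp [TreeD.spec] at hij
      conj := fun i j hij => by simp [TreeD.spec] at hij
      four := fun u hu v hv e huv hue he hsq => by
        have h3 : ∀ w ∈ TreeD.spec.three, prodW (letters t x y a) w ^ 3 = 1 ∧ prodW (letters t x y a) w ≠ 1 := by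
          intro w hw
          simp only [TreeD.spec, List.mem_cons, List.not_mem_nil, or_false] at hw
          rcases hw with rfl | rfl | rfl | rfl <;> simp only [prodW_letters, letters, List.forall_mem_cons,
            List.not_mem_nil, IsEmpty.forall_iff, implies_true, List.map_cons, List.map_nil,
            List.prod_cons, List.prod_nil, mul_one, List.getD_cons_zero, List.getD_cons_succ, Nat.one_lt_ofNat,
            Nat.reduceLT, and_self]
          · exact ⟨hx, hx1⟩
          · exact ⟨hy, hy1⟩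
          · exact ⟨by rw [hxy.mul_pow, hx, hy, one_mul], hxy1⟩
          · exact ⟨by rw [hxy.inv_right.mul_pow, hx, inv_pow, hy, inv_one, one_mul], hxy2⟩
        have hsq' : prodW (letters t x y a) v * e * (prodW (letters t x y a) v)⁻¹ *
            (prodW (letters t x y a) v * e * (prodW (letters t x y a) v)⁻¹) = 1 := by
          rw [show prodW (letters t x y a) v * e * (prodW (letters t x y a) v)⁻¹ *
            (prodW (letters t x y a) v * e * (prodW (letters t x y a) v)⁻¹) =
            prodW (letters t x y a) v * (e * e) * (prodW (letters t x y a) v)⁻¹ by group, he, mul_one, mul_inv_cancel]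
        exact hA _ _ e (h3 u hu).1 (h3 u hu).2 (h3 v hv).1 huv he hue.symm
          (commute_of_sq he hsq' (by rw [← pow_two]; exact hsq)) }
  have hR : ∀ r ∈ TreeD.rels, prodW (letters t x y a) r = 1 := by
    have e1 : t * x * t⁻¹ * x = 1 := by rw [htx, inv_mul_cancel]
    have e2 : t * y * t⁻¹ * y⁻¹ = 1 := by rw [hty.eq, mul_inv_cancel_right, mul_inv_cancel]
    have e3 : a * t * a⁻¹ * t⁻¹ = 1 := by rw [hat.eq, mul_inv_cancel_right, mul_inv_cancel]
    have e4 : x * y * x⁻¹ * y⁻¹ = 1 := by rw [hxy.eq, mul_inv_cancel_right, mul_inv_cancel]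
    have e5 : a * (y * a * y⁻¹) * a⁻¹ * (y * a * y⁻¹)⁻¹ = 1 := by
      rw [hay.eq, mul_inv_cancel_right, mul_inv_cancel]
    simp only [mul_inv_rev, inv_inv, mul_assoc] at e1 e2 e3 e4 e5 hprod
    simp [TreeD.rels, prodW_letters, letters, ht, ha, hx3, hy3, e1, e2, e3, e4, e5, hprod]
  obtain ⟨T, hT, hall⟩ := Tree.sound hE TreeD.tree_ok hR
  simp only [TreeD.spec, List.mem_cons, List.not_mem_nil, or_false] at hT
  have hcomm : ∀ {p q : G}, p * q * p⁻¹ * q⁻¹ = 1 → Commute p q := fun {p q} e =>
    mul_inv_eq_iff_eq_mul.1 (mul_inv_eq_one.1 e)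
  rcases hT with rfl | rfl | rfl | rfl
  · exact Or.inl (by simpa [prodW_letters, letters] using hall [1] (by simp))
  · exact Or.inr (Or.inl (by simpa [prodW_letters, letters] using hall [3] (by simp)))
  · exact Or.inr (Or.inr (Or.inl (hcomm (by
      simpa [prodW_letters, letters, mul_assoc] using hall [3, 1, 7, 5] (by simp)))))
  · have h1 := hall _ (List.Mem.head _)
    have h2 := hall _ (List.Mem.tail _ (List.Mem.head _))
    have h3 := hall _ (List.Mem.tail _ (List.Mem.tail _ (List.Mem.head _)))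
    have h4 := hall _ (List.Mem.tail _ (List.Mem.tail _ (List.Mem.tail _ (List.Mem.head _))))
    have h5 := hall _ (List.Mem.tail _ (List.Mem.tail _ (List.Mem.tail _ (List.Mem.tail _ (List.Mem.head _)))))
    have h6 := hall _ (List.Mem.tail _ (List.Mem.tail _ (List.Mem.tail _ (List.Mem.tail _ (List.Mem.tail _
      (List.Mem.head _))))))
    have h7 := hall _ (List.Mem.tail _ (List.Mem.tail _ (List.Mem.tail _ (List.Mem.tail _ (List.Mem.tail _
      (List.Mem.tail _ (List.Mem.head _)))))))
    have h8 := hall _ (List.Mem.tail _ (List.Mem.tail _ (List.Mem.tail _ (List.Mem.tail _ (List.Mem.tail _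
      (List.Mem.tail _ (List.Mem.tail _ (List.Mem.head _))))))))
    simp only [prodW_letters, letters, List.forall_mem_cons, List.not_mem_nil, IsEmpty.forall_iff, implies_true,
      List.map_cons, List.map_nil, List.prod_cons, List.prod_nil, mul_one, List.getD_cons_zero,
      List.getD_cons_succ, Nat.reduceLT, and_self, Nat.ofNat_pos] at h1 h2 h3 h4 h5 h6 h7 h8
    exact Or.inr (Or.inr (Or.inr ⟨t * x * y * a * x⁻¹ * a * x * a, t * a * x * y⁻¹ * a * x * y * a,
      by simpa [mul_assoc] using h1,
      hcomm (by simpa [mul_assoc] using h2),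
      hcomm (by simpa [mul_assoc] using h3),
      eq_inv_of_mul_eq_one_left (by simpa [mul_assoc] using h4),
      by simpa [mul_assoc] using h5,
      mul_inv_eq_one.1 (by simpa [mul_assoc] using h6),
      mul_inv_eq_one.1 (by simpa [mul_assoc] using h7),
      mul_inv_eq_one.1 (by simpa [mul_assoc] using h8)⟩))

end Cfsg.Lib.Recog.OrderSix.Six
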