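import Cfsg.Agent.Lib.Recog.OrderSix.Defs
import Cfsg.Agent.Lib.Invol.Basic

/-!
# Element orders at most six: hypotheses used by the coset enumerations around elements of order six
-/

set_option autoImplicit false
set_option linter.unusedSectionVars false

namespace Cfsg.Lib.Recog.OrderSix.Six

variable {G : Type*} [Group G]

/-- An involution inverting no element of order three. -/
def Pure (z : G) : Prop := ∀ b : G, b ^ 3 = 1 → z * b * z⁻¹ = b⁻¹ → b = 1

/-- `z` lies in a normal subgroup of exponent two of the centralizer of `y`. -/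
structure Central (z y : G) : Prop where
  commute : Commute z y
  invol : ∀ g : G, g * g = 1 → Commute g y → Commute g z
  conj : ∀ h : G, Commute h y → Commute z (h * z * h⁻¹)

/-- No four-group in the centralizer of an element of order three is moved by one of its elements of order three. -/
def NoA4 (G : Type*) [Group G] : Prop :=
  ∀ u k e : G, u ^ 3 = 1 → u ≠ 1 → k ^ 3 = 1 → Commute u k → e * e = 1 → Commute e u →
    Commute e (k * e * k⁻¹) → Commute e k

/-- The symmetric group of degree five in the generators `z`, `x`, `y`. -/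
structure Five (z x y : G) : Prop where
  yx : (y * x) ^ 5 = 1
  yx' : (y * x⁻¹) ^ 5 = 1
  yzx : (y * z * x) ^ 4 = 1

/-- The involution of the symmetric group of degree five inverting `y` and commuting with `z`. -/
def fiveW (x y : G) : G := x * y * x⁻¹ * y⁻¹ * x

theorem Pure.conj {z : G} (h : Pure z) (g : G) : Pure (g * z * g⁻¹) := fun b hb hi => by
  have h1 := h (g⁻¹ * b * g) (by
    have := conj_pow (i := 3) (a := g⁻¹) (b := b)
    rw [inv_inv] at this
    rw [this, hb, mul_one, inv_mul_cancel]) (by
    calc z * (g⁻¹ * b * g) * z⁻¹ = g⁻¹ * (g * z * g⁻¹ * b * (g * z * g⁻¹)⁻¹) * g := by group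
      _ = g⁻¹ * b⁻¹ * g := by rw [hi]
      _ = (g⁻¹ * b * g)⁻¹ := by group)
  calc b = g * (g⁻¹ * b * g) * g⁻¹ := by group
    _ = 1 := by rw [h1, mul_one, mul_inv_cancel]

/-- The product of a pure involution with an involution has order one, two, four or five. -/
theorem Pure.product [Finite G] {z s : G} (hp : Pure z) (h : OrdSix G) (hz : z * z = 1) (hs : s * s = 1) :
    (z * s) ^ 4 = 1 ∨ (z * s) ^ 5 = 1 := by
  have hz' : z⁻¹ = z := inv_eq_of_mul_eq_one_left hz
  have hs' : s⁻¹ = s := inv_eq_of_mul_eq_one_left hs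
  have hinv : ∀ n : ℕ, z * (z * s) ^ n * z⁻¹ = ((z * s) ^ n)⁻¹ := fun n => by
    rw [← conj_pow, ← inv_pow]
    congr 1
    rw [mul_inv_rev, hs', hz', ← mul_assoc, hz, one_mul]
  rcases h.pow_cases (z * s) with e | e | e | e | e | e
  · left; rw [e, one_pow]
  · left; rw [show (4 : ℕ) = 2 * 2 from rfl, pow_mul, e, one_pow]
  · left; rw [hp (z * s) e (by simpa using hinv 1), one_pow]
  · exact Or.inl e
  · exact Or.inr e
  · left
    have := hp ((z * s) ^ 2) (by rw [← pow_mul]; exact e) (hinv 2)
    rw [show (4 : ℕ) = 2 * 2 from rfl, pow_mul, this, one_pow]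

end Cfsg.Lib.Recog.OrderSix.Six
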