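import Cfsg.Agent.Lib.Recog.OrderSix.Six.Frame
import Cfsg.Agent.S3716

/-!
# Element orders at most six: no simple group with trivial cores of the involution centralizers has an element
of order six
-/

set_option autoImplicit false
set_option linter.unusedSectionVars false
set_option linter.style.haveILetI false

namespace Cfsg.Lib.Recog.OrderSix.Six

open Subgroup
open Cfsg.Lib
open Grid (V app Mono)

universe u

variable {G : Type u} [Group G] [Finite G]

/-- The statement of the fourth enumeration. -/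
def EnumSix (G : Type u) [Group G] : Prop :=
  NoA4 G → ∀ t x y a : G, t * t = 1 → x ^ 3 = 1 → y ^ 3 = 1 → t * x * t⁻¹ = x⁻¹ → Commute t y → Commute x y →
    a * a = 1 → Commute a t → Commute a (y * a * y⁻¹) → a * (y * a * y⁻¹) * (y⁻¹ * a * y) = 1 →
      x = 1 ∨ a = 1 ∨ Commute a x ∨ ∃ t' s : G, t' * t' = 1 ∧ Commute t t' ∧ Commute t' x ∧
        t' * y * t'⁻¹ = y⁻¹ ∧ s * s = 1 ∧ s * t * s⁻¹ = t' ∧ s * x * s⁻¹ = y ∧ s * y * s⁻¹ = x

variable {t t' s x y : G}

/-- The plane is a Sylow subgroup. -/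
theorem Frame.exists_sylow (F : Frame t t' s x y) (h : OrdSix G) (hA : NoA4 G) (hcore : NoCores G) :
    ∃ P : Sylow 3 G, (P : Subgroup G) = F.plane := by
  haveI : Fact (Nat.Prime 3) := ⟨Nat.prime_three⟩
  have hp : IsPGroup 3 F.plane := IsPGroup.of_card (n := 2) (by rw [F.card_plane]; norm_num)
  obtain ⟨P, hP⟩ := hp.exists_le_sylow
  refine ⟨P, le_antisymm ?_ hP⟩
  haveI : Group.IsNilpotent (P : Subgroup G) := P.isPGroup'.isNilpotent
  set K := F.plane.subgroupOf (P : Subgroup G) with hK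
  by_contra hle
  have hlt : K < ⊤ := lt_top_iff_ne_top.2 fun e => hle (subgroupOf_eq_top.1 e)
  have hgt := normalizerCondition_of_isNilpotent (G := (P : Subgroup G)) K hlt
  obtain ⟨n, hn, hnK⟩ := SetLike.exists_of_lt hgt
  have hnN : (n : G) ∈ normalizer (F.plane : Set G) := by
    refine mem_normalizer_fintype (S := (F.plane : Set G)) fun m hm => ?_
    exact mem_subgroupOf.1 ((mem_normalizer_iff.1 hn ⟨m, hP hm⟩).1 (mem_subgroupOf.2 hm))
  obtain ⟨A, B, hM, hAx, hBy⟩ := F.mono_of_normalizer h hnN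
  have hn3 : (n : G) ^ 3 = 1 := by
    obtain ⟨j, hj⟩ := IsPGroup.iff_orderOf.1 P.isPGroup' n
    exact h.three_pow (by rw [Subgroup.orderOf_coe, hj])
  have hact := (F.acts_app hAx hBy).pow 3
  rw [hn3] at hact
  obtain ⟨h1, h2, h3, h4⟩ := Grid.eq_id_of_mono _ _ _ _ hM fun v => by
    have := hact v
    rw [one_mul, inv_one, mul_one] at this
    exact (F.pt_injective this).symm
  have hx : Commute (n : G) x := mul_inv_eq_iff_eq_mul.1 (by
    rw [hAx, show A = (1, 0) from Prod.ext h1 h3]; show x ^ 1 * y ^ 0 = x; simp)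
  have hy : Commute (n : G) y := mul_inv_eq_iff_eq_mul.1 (by
    rw [hBy, show B = (0, 1) from Prod.ext h2 h4]; show x ^ 0 * y ^ 1 = y; simp)
  exact hnK (mem_subgroupOf.2 (F.mem_plane h hA hcore hx hy))

/-- The centralizers of the nonidentity elements of the plane normalize it. -/
theorem Frame.centralizer_le (F : Frame t t' s x y) (h : OrdSix G) (hbot : ∀ y : G, orderOf y = 3 → cR 2 y = ⊥)
    (hA : NoA4 G) (hcore : NoCores G) (P : Sylow 3 G) (hP : (P : Subgroup G) = F.plane) {g : G}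
    (hg : g ∈ F.plane) (hg1 : g ≠ 1) : centralizer ({g} : Set G) ≤ normalizer (F.plane : Set G) := by
  haveI : Fact (Nat.Prime 2) := ⟨Nat.prime_two⟩
  haveI : Fact (Nat.Prime 3) := ⟨Nat.prime_three⟩
  set C := centralizer ({g} : Set G) with hC
  have hog := orderOf_three (F.pow_three_plane hg) hg1
  have hle : F.plane ≤ C := fun a ha => mem_centralizer_singleton_iff.2 (F.commute_plane ha hg).eq
  set K := F.plane.subgroupOf C with hK
  have hKc : Nat.card K = 9 := by rw [Nat.card_congr (subgroupOfEquivOfLe hle).toEquiv, F.card_plane]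
  have hcard : Nat.card C = 9 * K.index := by rw [← hKc, K.card_mul_index]
  have hsmall : ∀ Q : Subgroup C, Nat.card Q ≠ 4 := fun Q hQ => by
    obtain ⟨a, ha, ha1⟩ := Q.bot_or_exists_ne_one.resolve_left fun e => by simp [e] at hQ
    have hsq : ∀ b ∈ Q, (b : G) * (b : G) = 1 ∧ Commute (b : G) g := fun b hb => by
      refine ⟨sq_one_of_commute h hog (mem_centralizer_singleton_iff.1 b.2) (k := 2) ?_,
        mem_centralizer_singleton_iff.1 b.2⟩
      have h4 : (⟨b, hb⟩ : Q) ^ Nat.card Q = 1 := pow_card_eq_one'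
      rw [hQ] at h4
      exact congrArg (fun q : Q => ((q : C) : G)) h4
    have hle' : Q ≤ zpowers a := fun b hb => by
      by_cases hb1 : b = 1
      · rw [hb1]; exact one_mem _
      have hab : Commute (a : G) b := commute_of_sq (hsq a ha).1 (hsq b hb).1 (hsq (a * b) (mul_mem ha hb)).1
      have := no_two_invol h hbot hA hcore hog (hsq a ha).1 (fun e => ha1 (Subtype.ext e)) (hsq b hb).1
        (fun e => hb1 (Subtype.ext e)) hab (hsq a ha).2 (hsq b hb).2
      rw [← Subtype.ext this]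
      exact mem_zpowers a
    have h1 := Subgroup.card_le_of_le hle'
    rw [hQ, Nat.card_zpowers] at h1
    have h2 : orderOf a ∣ 2 := orderOf_dvd_of_pow_eq_one (Subtype.ext (by rw [pow_two]; exact (hsq a ha).1))
    have := Nat.le_of_dvd two_pos h2
    omega
  have h27 : ¬ 3 ^ 3 ∣ Nat.card G := fun hd => by
    obtain ⟨Q, hQ⟩ := Sylow.exists_subgroup_card_pow_prime 3 hd
    obtain ⟨R, hR⟩ := (IsPGroup.of_card hQ).exists_le_sylow
    have h1 := Subgroup.card_le_of_le hR
    rw [Nat.card_congr (R.equiv P).toEquiv, hP, F.card_plane, hQ] at h1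
    omega
  have hidx : K.index ∣ 2 := by
    have h0 : K.index ≠ 0 := index_ne_zero_of_finite
    have hdC : K.index ∣ Nat.card C := Dvd.intro_left _ hcard.symm
    have hpp := Nat.eq_prime_pow_of_unique_prime_dvd (p := 2) h0 fun {d} hd hdm => by
      rcases h.prime_cases hd (hdm.trans (hdC.trans (card_subgroup_dvd_card _))) with rfl | rfl | rfl
      · rfl
      · refine absurd ?_ h27
        refine dvd_trans ?_ (card_subgroup_dvd_card C)
        rw [hcard]
        exact Nat.mul_dvd_mul_left 9 hdm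
      · exact absurd (hdm.trans hdC) (not_five_dvd_three h hog)
    rw [hpp] at hdC ⊢
    rcases Nat.lt_or_ge K.index.primeFactorsList.length 2 with hl | hl
    · exact dvd_trans (pow_dvd_pow 2 (Nat.lt_succ_iff.1 hl)) dvd_rfl
    · obtain ⟨Q, hQ⟩ := Sylow.exists_subgroup_card_pow_prime 2 ((pow_dvd_pow 2 hl).trans hdC)
      exact absurd hQ (hsmall Q)
  haveI : K.Normal := by
    rcases (Nat.dvd_prime Nat.prime_two).1 hidx with e | e
    · rw [index_eq_one.1 e]; infer_instance
    · exact normal_of_index_eq_two e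
  exact (normal_subgroupOf_iff_le_normalizer hle).1 this

/-- The Sylow two-subgroups of the normalizer of the plane are dihedral of order eight. -/
theorem Frame.sylow_normalizer (F : Frame t t' s x y) (h : OrdSix G) (hA : NoA4 G) (hcore : NoCores G)
    (S : Sylow 2 ↥(normalizer (F.plane : Set G))) :
    Nonempty (↥(S : Subgroup ↥(normalizer (F.plane : Set G))) ≃* DihedralGroup 4) := by
  haveI : Fact (Nat.Prime 2) := ⟨Nat.prime_two⟩
  have hnorm : ∀ {n : G} {f : V → V}, Acts x y n f → n ∈ normalizer (F.plane : Set G) := fun {n f} hn =>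
    mem_normalizer_fintype (S := (F.plane : Set G)) fun m hm => by
      obtain ⟨v, rfl⟩ := hm
      exact ⟨f v, (hn v).symm⟩
  let t₀ : ↥(normalizer (F.plane : Set G)) := ⟨t, hnorm F.acts_t⟩
  let r₀ : ↥(normalizer (F.plane : Set G)) := ⟨s * t, hnorm (F.acts_s.mul F.acts_t)⟩
  have ht₀ : t₀ * t₀ = 1 := Subtype.ext F.ht
  have hs' : s⁻¹ = s := inv_eq_of_mul_eq_one_left F.hs
  have ht_inv : t⁻¹ = t := inv_eq_of_mul_eq_one_left F.ht
  have hinv : t₀ * r₀ * t₀⁻¹ = r₀⁻¹ := Subtype.ext (by
    show t * (s * t) * t⁻¹ = (s * t)⁻¹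
    rw [mul_inv_rev, hs', ht_inv, mul_assoc t, mul_assoc s, F.ht, mul_one])
  have ht'ne : t' ≠ t := fun e => F.hx1 (eq_one_of_inverted F.hx F.htx (e ▸ F.ht'x))
  have hsq : (s * t) ^ 2 = t' * t := by
    rw [pow_two, show s * t * (s * t) = s * t * s⁻¹ * (s * s) * t by group, F.hst, F.hs, mul_one]
  have ho : orderOf r₀ = 4 := by
    rw [← Subgroup.orderOf_coe]
    show orderOf (s * t) = 2 ^ (1 + 1)
    exact orderOf_eq_prime_pow (p := 2) (n := 1)
      (by rw [pow_one, hsq]; exact fun e => ht'ne (by rw [eq_inv_of_mul_eq_one_left e, ht_inv]))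
      (by rw [show 2 ^ (1 + 1) = 2 * 2 from rfl, pow_mul, hsq, pow_two, sq_of_commute F.ht' F.ht F.htt'.symm])
  have hnot : t₀ ∉ zpowers r₀ := fun hm => by
    obtain ⟨m, hm⟩ := hm
    have h1 : Commute t₀ r₀ := hm ▸ (Commute.refl r₀).zpow_left m
    have h2 : Commute t (s * t) := congrArg Subtype.val h1
    refine ht'ne ?_
    have h3 : t * s = s * t := mul_right_cancel (b := t) (by rw [mul_assoc t s t, h2.eq])
    rw [← F.hst, ← h3, mul_inv_cancel_right]
  obtain ⟨φ, hφ⟩ : ∃ φ : DihedralGroup 4 →* ↥(normalizer (F.plane : Set G)), Function.Injective φ := by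
    have key : ∀ (n : ℕ) (hn : r₀ ^ n = 1), orderOf r₀ = n →
        Function.Injective (Invol.dihedralHom n hn ht₀ hinv) := fun n hn e => by
      subst e
      exact Invol.dihedralHom_injective ht₀ hinv hnot
    exact ⟨_, key 4 (ho ▸ pow_orderOf_eq_one r₀) ho⟩
  have hrange : Nat.card φ.range = 8 := by
    rw [← Nat.card_congr (MonoidHom.ofInjective hφ).toEquiv, DihedralGroup.nat_card]
  obtain ⟨Q, hQ⟩ := (IsPGroup.of_card (p := 2) (n := 3) hrange).exists_le_sylow
  have hcode : ∀ n : (Q : Subgroup ↥(normalizer (F.plane : Set G))), ∃ q : {q : V × V // Mono q.1.1 q.2.1 q.1.2 q.2.2},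
      ((n : ↥(normalizer (F.plane : Set G))) : G) * x * ((n : ↥(normalizer (F.plane : Set G))) : G)⁻¹ = pt x y q.1.1 ∧ ((n : ↥(normalizer (F.plane : Set G))) : G) * y * ((n : ↥(normalizer (F.plane : Set G))) : G)⁻¹ = pt x y q.1.2 := by
    intro n
    obtain ⟨A, B, hM, h1, h2⟩ := F.mono_of_normalizer h (n : ↥(normalizer (F.plane : Set G))).2
    exact ⟨⟨(A, B), hM⟩, h1, h2⟩
  choose code hc1 hc2 using hcode
  have hcinj : Function.Injective code := fun a b hab => by
    set n : G := ((b : ↥(normalizer (F.plane : Set G))) : G)⁻¹ * ((a : ↥(normalizer (F.plane : Set G))) : G) with hn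
    have hcm : ∀ c : G, ((a : ↥(normalizer (F.plane : Set G))) : G) * c * ((a : ↥(normalizer (F.plane : Set G))) : G)⁻¹ = ((b : ↥(normalizer (F.plane : Set G))) : G) * c * ((b : ↥(normalizer (F.plane : Set G))) : G)⁻¹ → Commute n c := by
      intro c hc
      refine mul_inv_eq_iff_eq_mul.1 ?_
      calc n * c * n⁻¹ = ((b : ↥(normalizer (F.plane : Set G))) : G)⁻¹ * (((a : ↥(normalizer (F.plane : Set G))) : G) * c * ((a : ↥(normalizer (F.plane : Set G))) : G)⁻¹) * ((b : ↥(normalizer (F.plane : Set G))) : G) := by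
            rw [hn]; group
        _ = c := by rw [hc]; group
    have hmem := F.mem_plane h hA hcore (hcm x (by rw [hc1, hc1, hab])) (hcm y (by rw [hc2, hc2, hab]))
    have h3 := F.pow_three_plane hmem
    obtain ⟨k, hk⟩ := IsPGroup.iff_orderOf.1 Q.isPGroup' (b⁻¹ * a)
    have hd : orderOf (b⁻¹ * a) ∣ 3 := orderOf_dvd_of_pow_eq_one (Subtype.ext (Subtype.ext h3))
    rcases (Nat.dvd_prime Nat.prime_three).1 hd with e | e
    · exact (inv_mul_eq_one.1 (orderOf_eq_one_iff.1 e)).symm
    · have := Nat.prime_three.dvd_of_dvd_pow (show 3 ∣ 2 ^ k by rw [← hk, e])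
      omega
  have hQ8 : Nat.card (Q : Subgroup ↥(normalizer (F.plane : Set G))) ≤ 8 := Grid.card_mono ▸ Nat.card_le_card_of_injective code hcinj
  have heq : φ.range = (Q : Subgroup ↥(normalizer (F.plane : Set G))) := Subgroup.eq_of_le_of_card_ge hQ (hQ8.trans_eq hrange.symm)
  exact ⟨((S.equiv Q).trans (MulEquiv.subgroupCongr heq.symm)).trans (MonoidHom.ofInjective hφ).symm⟩

/-- A simple group has no such configuration. -/
theorem Frame.contradiction [IsSimpleGroup G] (F : Frame t t' s x y) (h : OrdSix G)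
    (hbot : ∀ y : G, orderOf y = 3 → cR 2 y = ⊥) (hA : NoA4 G) (hcore : NoCores G) : False := by
  obtain ⟨P, hP⟩ := F.exists_sylow h hA hcore
  refine Cfsg.Agent.S3716.result P (by rw [hP, F.card_plane]) (by rw [hP]; exact fun m hm => F.pow_three_plane hm)
    ?_ (normalizer (F.plane : Set G)) (by rw [hP]) (fun g hg hg1 => ?_) (F.sylow_normalizer h hA hcore) inferInstance
  · rw [hP]
    refine le_antisymm (fun g hg => ?_) fun g hg => mem_centralizer_iff.2 fun m hm => (F.commute_plane hm hg).eq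
    exact F.mem_plane h hA hcore ((mem_centralizer_iff.1 hg x F.x_mem).symm) ((mem_centralizer_iff.1 hg y F.y_mem).symm)
  · rw [hP] at hg
    exact F.centralizer_le h hbot hA hcore P hP hg hg1

/-- No element of order six. -/
theorem no_six [IsSimpleGroup G] (hna : ¬ IsMulCommutative G) (h : OrdSix G) (hO : Cfsg.oddCore G = ⊥)
    (hcore : NoCores G) (hpure : EnumPure G) (hfive : EnumFive G) (hfour : EnumFour G) (hsix : EnumSix G)
    {g : G} (hg : orderOf g = 6) : False := by
  have hbot : ∀ y : G, orderOf y = 3 → cR 2 y = ⊥ := fun y hy =>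
    cR_three_eq_bot hna h hpure hfive hfour hO hcore hy
  have hA := noA4 h hbot
  have hg6 : g ^ 6 = 1 := hg ▸ pow_orderOf_eq_one g
  set t := g ^ 3 with htd
  have ht : t * t = 1 := by rw [htd, ← pow_add, hg6]
  have ht1 : t ≠ 1 := fun e => by have := orderOf_dvd_of_pow_eq_one (htd ▸ e : g ^ 3 = 1); rw [hg] at this; omega
  have hy₀ : orderOf (g ^ 2) = 3 := by rw [orderOf_pow, hg]; decide
  obtain ⟨y, a, hy, hty, ha, ha1, hat, hay, hprod⟩ :=
    exists_four hna h hO hbot hA hcore ht ht1 hy₀ ((Commute.refl g).pow_pow 3 2)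
  have hy3 : y ^ 3 = 1 := hy ▸ pow_orderOf_eq_one y
  have hy1 : y ≠ 1 := fun e => by rw [e, orderOf_one] at hy; omega
  rcases mem_core_or_inverts h (not_five_dvd_three h hy) ht hty with hm | ⟨x, hx, hx1, hxy, htx⟩
  · rw [hbot y hy, Subgroup.mem_bot] at hm
    exact ht1 hm
  rcases hsix hA t x y a ht hx hy3 htx hty hxy ha hat hay hprod with e | e | e |
      ⟨t', s, ht', htt', ht'x, ht'y, hs, hst, hsx, hsy⟩
  · exact hx1 e
  · exact ha1 e
  · have hc := hA x y a hx hx1 hy3 hxy ha e hay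
    rw [show y * a * y⁻¹ = a by rw [← hc.eq, mul_inv_cancel_right], show y⁻¹ * a * y = a by
      rw [mul_assoc, hc.eq, inv_mul_cancel_left], ha, one_mul] at hprod
    exact ha1 hprod
  · exact Frame.contradiction
      (⟨ht, ht1, ht', htt', hs, hst, hsx, hsy, hx, hx1, hy3, hy1, hxy, htx, hty, ht'x, ht'y⟩ : Frame t t' s x y)
      h hbot hA hcore

end Cfsg.Lib.Recog.OrderSix.Six
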