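import Mathlib

/-!
# Element orders at most six: the linear maps of the plane over the field with three elements
-/

set_option autoImplicit false
set_option linter.unusedSectionVars false
set_option synthInstance.maxSize 2000
set_option synthInstance.maxHeartbeats 400000

namespace Cfsg.Lib.Recog.OrderSix.Six.Grid

/-- Vectors. -/
abbrev V : Type := ZMod 3 × ZMod 3

/-- The linear map with the given matrix. -/
def app (a b c d : ZMod 3) (v : V) : V := (a * v.1 + b * v.2, c * v.1 + d * v.2)

/-- The reflection in the second axis. -/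
def tV (v : V) : V := (-v.1, v.2)

/-- The exchange of the axes. -/
def sV (v : V) : V := (v.2, v.1)

/-- A monomial matrix. -/
def Mono (a b c d : ZMod 3) : Prop := (b = 0 ∧ c = 0 ∧ a ≠ 0 ∧ d ≠ 0) ∨ (a = 0 ∧ d = 0 ∧ b ≠ 0 ∧ c ≠ 0)

instance (a b c d : ZMod 3) : Decidable (Mono a b c d) := by unfold Mono; infer_instance

/-- The first axis is moved by the powers up to the sixth. -/
def Long (f : V → V) : Prop := ∀ k : Fin 6, f^[(k : ℕ) + 1] (1, 0) ≠ (1, 0)

instance (f : V → V) : Decidable (Long f) := by unfold Long; infer_instance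

theorem mono_or_long : ∀ a b c d : ZMod 3, (∀ v : V, app a b c d v = 0 → v = 0) →
    Mono a b c d ∨ Long (app a b c d ∘ tV) ∨ Long (app a b c d ∘ tV ∘ sV) ∨
      Long (app a b c d ∘ app a b c d ∘ sV) := by
  decide +kernel

theorem eq_id_of_mono : ∀ a b c d : ZMod 3, Mono a b c d → (∀ v : V, (app a b c d)^[3] v = v) →
    a = 1 ∧ b = 0 ∧ c = 0 ∧ d = 1 := by
  decide +kernel

theorem card_mono : Nat.card {q : V × V // Mono q.1.1 q.2.1 q.1.2 q.2.2} = 8 := by
  rw [Nat.card_eq_fintype_card]
  decide +kernel

end Cfsg.Lib.Recog.OrderSix.Six.Grid
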