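import Cfsg.Agent.Lib.Recog.OrderSix.Six.Nine
import Cfsg.Agent.Lib.Recog.OrderSix.Six.Grid

/-!
# Element orders at most six: a plane of exponent three with the symmetries of the square
-/

set_option autoImplicit false
set_option linter.unusedSectionVars false
set_option linter.style.haveILetI false

namespace Cfsg.Lib.Recog.OrderSix.Six

open Subgroup
open Cfsg.Lib
open Grid (V app tV sV Mono Long)

universe u

variable {G : Type u} [Group G] [Finite G]

theorem eq_one_of_inverted {f r : G} (hf : f ^ 3 = 1) (hi : r * f * r⁻¹ = f⁻¹) (hc : Commute r f) : f = 1 := by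
  rw [hc.eq, mul_inv_cancel_right] at hi
  calc f = f ^ 3 * (f * f)⁻¹ := by simp [pow_succ, mul_assoc]
    _ = 1 := by
      conv_lhs => arg 2; arg 1; arg 2; rw [hi]
      rw [hf, mul_inv_cancel, inv_one, mul_one]

/-- The vectors of the plane spanned by `x` and `y`. -/
def pt (x y : G) (v : V) : G := x ^ v.1.val * y ^ v.2.val

/-- `n` acts on the plane by `f`. -/
def Acts (x y n : G) (f : V → V) : Prop := ∀ v : V, n * pt x y v * n⁻¹ = pt x y (f v)

theorem Acts.mul {x y m n : G} {f g : V → V} (hm : Acts x y m f) (hn : Acts x y n g) :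
    Acts x y (m * n) (f ∘ g) := fun v => by
  rw [show m * n * pt x y v * (m * n)⁻¹ = m * (n * pt x y v * n⁻¹) * m⁻¹ by group, hn v, hm (g v)]
  rfl

theorem Acts.one {x y : G} : Acts x y 1 id := fun v => by simp

theorem Acts.pow {x y n : G} {f : V → V} (hn : Acts x y n f) : ∀ k : ℕ, Acts x y (n ^ k) f^[k]
  | 0 => by simpa using (Acts.one : Acts x y 1 id)
  | k + 1 => by
    rw [pow_succ, Function.iterate_succ]
    exact (Acts.pow hn k).mul hn

theorem pow_val_add {g : G} (hg : g ^ 3 = 1) (i j : ZMod 3) : g ^ (i + j).val = g ^ i.val * g ^ j.val := by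
  rw [← pow_add, ZMod.val_add, ← pow_eq_pow_mod _ hg]

/-- The configuration left by the enumerations around an element of order six. -/
structure Frame (t t' s x y : G) : Prop where
  ht : t * t = 1
  ht1 : t ≠ 1
  ht' : t' * t' = 1
  htt' : Commute t t'
  hs : s * s = 1
  hst : s * t * s⁻¹ = t'
  hsx : s * x * s⁻¹ = y
  hsy : s * y * s⁻¹ = x
  hx : x ^ 3 = 1
  hx1 : x ≠ 1
  hy : y ^ 3 = 1
  hy1 : y ≠ 1
  hxy : Commute x y
  htx : t * x * t⁻¹ = x⁻¹
  hty : Commute t y
  ht'x : Commute t' x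
  ht'y : t' * y * t'⁻¹ = y⁻¹

variable {t t' s x y : G}

theorem Frame.not_mem (F : Frame t t' s x y) : y ∉ zpowers x := fun hm => by
  obtain ⟨m, hm⟩ := hm
  have hm' : x ^ m = y := hm
  exact F.hy1 (eq_one_of_inverted F.hy F.ht'y (hm' ▸ F.ht'x.zpow_right m))

theorem Frame.pt_add (F : Frame t t' s x y) (v w : V) : pt x y (v + w) = pt x y v * pt x y w := by
  show x ^ (v.1 + w.1).val * y ^ (v.2 + w.2).val = _
  rw [pow_val_add F.hx, pow_val_add F.hy]
  exact (F.hxy.pow_pow w.1.val v.2.val).mul_mul_mul_comm _ _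

theorem Frame.pt_zero : pt x y (0 : V) = 1 := by
  show x ^ 0 * y ^ 0 = 1
  simp

theorem Frame.pt_nsmul (F : Frame t t' s x y) (v : V) : ∀ k : ℕ, pt x y (k • v) = pt x y v ^ k
  | 0 => by rw [zero_nsmul, pow_zero, Frame.pt_zero]
  | k + 1 => by rw [succ_nsmul, pow_succ, F.pt_add, F.pt_nsmul v k]

theorem Frame.pt_eq_one (F : Frame t t' s x y) {v : V} (hv : pt x y v = 1) : v = 0 := by
  obtain ⟨i, j⟩ := v
  have hox := orderOf_three F.hx F.hx1
  have hoy := orderOf_three F.hy F.hy1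
  have hj : j = 0 := by
    by_contra hj
    refine F.not_mem ?_
    have h2 : y ^ j.val ∈ zpowers x := by
      rw [eq_inv_of_mul_eq_one_right (show x ^ i.val * y ^ j.val = 1 from hv)]
      exact inv_mem (pow_mem (mem_zpowers x) _)
    have h3 : y = (y ^ j.val) ^ j.val := by
      rw [← pow_mul, pow_eq_pow_mod _ F.hy,
        show j.val * j.val % 3 = 1 from (by decide : ∀ k : ZMod 3, k ≠ 0 → k.val * k.val % 3 = 1) j hj, pow_one]
    rw [h3]
    exact pow_mem h2 _
  subst hj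
  have hi : i.val = 0 := by
    have h1 : x ^ i.val = 1 := by
      have : x ^ i.val * y ^ (0 : ℕ) = 1 := hv
      simpa using this
    have h2 := orderOf_dvd_of_pow_eq_one h1
    rw [hox] at h2
    exact Nat.eq_zero_of_dvd_of_lt h2 (ZMod.val_lt i)
  exact Prod.ext ((ZMod.val_eq_zero i).1 hi) rfl

theorem Frame.pt_injective (F : Frame t t' s x y) {v w : V} (hvw : pt x y v = pt x y w) : v = w :=
  sub_eq_zero.1 (F.pt_eq_one (by
    have h1 := F.pt_add (v - w) w
    rw [sub_add_cancel, hvw] at h1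
    exact mul_eq_right.1 h1.symm))

/-- The plane. -/
def Frame.plane (F : Frame t t' s x y) : Subgroup G where
  carrier := Set.range (pt x y)
  one_mem' := ⟨0, Frame.pt_zero⟩
  mul_mem' := by
    rintro _ _ ⟨v, rfl⟩ ⟨w, rfl⟩
    exact ⟨v + w, F.pt_add v w⟩
  inv_mem' := by
    rintro _ ⟨v, rfl⟩
    refine ⟨-v, eq_inv_of_mul_eq_one_left ?_⟩
    rw [← F.pt_add, neg_add_cancel, Frame.pt_zero]

theorem Frame.x_mem (F : Frame t t' s x y) : x ∈ F.plane := ⟨(1, 0), show x ^ 1 * y ^ 0 = x by simp⟩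

theorem Frame.y_mem (F : Frame t t' s x y) : y ∈ F.plane := ⟨(0, 1), show x ^ 0 * y ^ 1 = y by simp⟩

theorem Frame.card_plane (F : Frame t t' s x y) : Nat.card F.plane = 9 := by
  show Nat.card ↥(Set.range (pt x y)) = 9
  rw [Nat.card_congr (Equiv.ofInjective _ fun _ _ => F.pt_injective).symm, Nat.card_prod, Nat.card_zmod]

theorem Frame.pow_three_plane (F : Frame t t' s x y) {g : G} (hg : g ∈ F.plane) : g ^ 3 = 1 := by
  obtain ⟨v, rfl⟩ := hg
  rw [← F.pt_nsmul]
  exact (congrArg (pt x y) (by revert v; decide : (3 : ℕ) • v = 0)).trans Frame.pt_zero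

theorem Frame.commute_plane (F : Frame t t' s x y) {a b : G} (ha : a ∈ F.plane) (hb : b ∈ F.plane) :
    Commute a b := by
  obtain ⟨v, rfl⟩ := ha
  obtain ⟨w, rfl⟩ := hb
  show pt x y v * pt x y w = pt x y w * pt x y v
  rw [← F.pt_add, ← F.pt_add, add_comm]

/-- The centralizer of the plane is the plane. -/
theorem Frame.mem_plane (F : Frame t t' s x y) (h : OrdSix G) (hA : NoA4 G) (hcore : NoCores G) {g : G}
    (hgx : Commute g x) (hgy : Commute g y) : g ∈ F.plane := by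
  haveI : Fact (Nat.Prime 2) := ⟨Nat.prime_two⟩
  haveI : Fact (Nat.Prime 3) := ⟨Nat.prime_three⟩
  obtain ⟨ht, ht1, ht', htt', hs, hst, hsx, hsy, hx, hx1, hy, hy1, hxy, htx, hty, ht'x, ht'y⟩ := id F
  have hoy := orderOf_three hy hy1
  set W := centralizer ({x, y} : Set G) with hW
  have hWmem : ∀ {w : G}, w ∈ W ↔ Commute w x ∧ Commute w y := fun {w} =>
    ⟨fun hw => ⟨((mem_centralizer_iff.1 hw) x (Or.inl rfl)).symm, ((mem_centralizer_iff.1 hw) y (Or.inr rfl)).symm⟩,
      fun hw => mem_centralizer_iff.2 (by rintro z (rfl | rfl); exacts [hw.1.eq.symm, hw.2.eq.symm])⟩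
  have hinv : ∀ e ∈ W, e * e = 1 → e = 1 := fun e he he2 => by
    by_contra he1
    obtain ⟨hex, hey⟩ := hWmem.1 he
    exact F.not_mem (no_nine h hA hcore he2 he1 hx hx1 hy hex hey hxy)
  have hexp : ∀ w ∈ W, w ^ 3 = 1 := fun w hw => by
    rcases h.pow_cases w with e | e | e | e | e | e
    · rw [e, one_pow]
    · rw [hinv w hw (by rwa [← pow_two]), one_pow]
    · exact e
    · rw [hinv w hw (hinv (w * w) (mul_mem hw hw) (by rw [← e]; simp [pow_succ, mul_assoc])), one_pow]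
    · have hw6 := pow_six_of_commute h hoy (hWmem.1 hw).2
      rw [show w = w ^ 6 * (w ^ 5)⁻¹ by simp [pow_succ, mul_assoc], hw6, e]; simp
    · have h3 := hinv _ (pow_mem hw 3) (by rw [← pow_add, e])
      exact h3
  have hWp : IsPGroup 3 W := fun w => ⟨1, Subtype.ext (by simpa using hexp w w.2)⟩
  have hnorm : ∀ {c : G}, (c * x * c⁻¹ = x ∨ c * x * c⁻¹ = x⁻¹) → (c * y * c⁻¹ = y ∨ c * y * c⁻¹ = y⁻¹) →
      ∀ w ∈ W, c * w * c⁻¹ ∈ W := fun {c} hcx hcy w hw => by
    obtain ⟨hwx, hwy⟩ := hWmem.1 hw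
    have h1 : Commute (c * w * c⁻¹) (c * x * c⁻¹) := hwx.map (MulAut.conj c)
    have h2 : Commute (c * w * c⁻¹) (c * y * c⁻¹) := hwy.map (MulAut.conj c)
    refine hWmem.2 ⟨?_, ?_⟩
    · rcases hcx with e | e <;> rw [e] at h1
      exacts [h1, by simpa using h1.inv_right]
    · rcases hcy with e | e <;> rw [e] at h2
      exacts [h2, by simpa using h2.inv_right]
  have hty' : t * y * t⁻¹ = y := by rw [hty.eq, mul_inv_cancel_right]
  have ht'x' : t' * x * t'⁻¹ = x := by rw [ht'x.eq, mul_inv_cancel_right]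
  have htW := hnorm (c := t) (Or.inr htx) (Or.inl hty')
  have ht'W := hnorm (c := t') (Or.inl ht'x') (Or.inr ht'y)
  have ht'ne : t' ≠ t := fun e => hx1 (eq_one_of_inverted hx htx (e ▸ ht'x))
  have ht'1 : t' ≠ 1 := fun e => ht1 (conj_eq_one_iff.1 (e ▸ hst))
  have hrx : t * t' * x * (t * t')⁻¹ = x⁻¹ := by
    rw [show t * t' * x * (t * t')⁻¹ = t * (t' * x * t'⁻¹) * t⁻¹ by group, ht'x', htx]
  have hry : t * t' * y * (t * t')⁻¹ = y⁻¹ := by
    rw [show t * t' * y * (t * t')⁻¹ = t * (t' * y * t'⁻¹) * t⁻¹ by group, ht'y, conj_inv.symm, hty']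
  set r := t * t' with hr
  -- elements of `W` fixed by `r` are inverted by `t`
  have hfix : ∀ w ∈ W, Commute r w → t * w * t⁻¹ = w⁻¹ := fun w hw hrw => by
    set w' := t * w * t⁻¹ with hw'
    set f := w * w'⁻¹ * w with hf
    have hw'W : w' ∈ W := htW w hw
    have hfW : f ∈ W := mul_mem (mul_mem hw (inv_mem hw'W)) hw
    have htf : Commute t f := by
      refine mul_inv_eq_iff_eq_mul.1 ?_
      have h3 : (w⁻¹ * w') * (w⁻¹ * w') * (w⁻¹ * w') = 1 := by
        rw [← hexp _ (mul_mem (inv_mem hw) hw'W)]; simp [pow_succ, mul_assoc]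
      calc t * f * t⁻¹ = (t * w * t⁻¹) * (t * t * w * (t * t)⁻¹)⁻¹ * (t * w * t⁻¹) := by rw [hf, hw']; group
        _ = w * w'⁻¹ * w * ((w⁻¹ * w') * (w⁻¹ * w') * (w⁻¹ * w')) := by rw [ht, ← hw']; group
        _ = f := by rw [h3, mul_one]
    obtain ⟨m, hm⟩ := no_nine h hA hcore ht ht1 hy hy1 (hexp f hfW) hty htf (hWmem.1 hfW).2.symm
    have hm' : y ^ m = f := hm
    have hrt : Commute r t := (Commute.refl t).mul_left htt'.symm
    have hrw' : Commute r w' := (hrt.mul_right hrw).mul_right hrt.inv_right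
    have hrf : Commute r f := (hrw.mul_right hrw'.inv_right).mul_right hrw
    have hf1 : f = 1 := eq_one_of_inverted (hexp f hfW) (by rw [← hm', ← conj_zpow, hry, inv_zpow]) hrf
    have e1 : w' = w * w := by
      calc w' = w * ((w * w'⁻¹ * w)⁻¹) * w := by group
        _ = w * w := by rw [← hf, hf1]; group
    rw [e1]
    exact eq_inv_of_mul_eq_one_left (by rw [← hexp w hw]; simp [pow_succ, mul_assoc])
  have hfix1 : ∀ w ∈ W, Commute r w → w = 1 := fun w hw hrw => by
    by_contra hw1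
    have hswap : s * t' * s⁻¹ = t := by
      rw [← hst, show s * (s * t * s⁻¹) * s⁻¹ = s * s * t * (s * s)⁻¹ by group, hs]; group
    have hsr : Commute s r := by
      refine mul_inv_eq_iff_eq_mul.1 ?_
      rw [hr, show s * (t * t') * s⁻¹ = s * t * s⁻¹ * (s * t' * s⁻¹) by group, hst, hswap, htt'.eq]
    have hsW : s * w * s⁻¹ ∈ W := by
      obtain ⟨hwx, hwy⟩ := hWmem.1 hw
      exact hWmem.2 ⟨hsy ▸ hwy.map (MulAut.conj s), hsx ▸ hwx.map (MulAut.conj s)⟩
    have hrw' : Commute r (s * w * s⁻¹) := (hsr.symm.mul_right hrw).mul_right hsr.symm.inv_right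
    have hcomm : Commute w (s * w * s⁻¹) := by
      have h1 := hfix _ (mul_mem hw hsW) (hrw.mul_right hrw')
      rw [show t * (w * (s * w * s⁻¹)) * t⁻¹ = t * w * t⁻¹ * (t * (s * w * s⁻¹) * t⁻¹) by group,
        hfix w hw hrw, hfix _ hsW hrw'] at h1
      have h2 := congrArg (·⁻¹) h1
      simp only [inv_inv, mul_inv_rev] at h2
      exact h2.symm
    set z := w * (s * w * s⁻¹) with hz
    have hzW : z ∈ W := mul_mem hw hsW
    have hsz : Commute s z := by
      refine mul_inv_eq_iff_eq_mul.1 ?_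
      calc s * z * s⁻¹ = s * w * s⁻¹ * (s * s * w * (s * s)⁻¹) := by rw [hz]; group
        _ = z := by rw [hs, inv_one, mul_one, one_mul, ← hcomm.eq]
    have hsxy : Commute s (x * y) := by
      refine mul_inv_eq_iff_eq_mul.1 ?_
      rw [show s * (x * y) * s⁻¹ = s * x * s⁻¹ * (s * y * s⁻¹) by group, hsx, hsy, hxy.eq]
    have hs1 : s ≠ 1 := fun e => ht'ne (by rw [← hst, e]; group)
    obtain ⟨m, hm⟩ := no_nine h hA hcore hs hs1 (u := x * y) (k := z) (by rw [hxy.mul_pow, hx, hy, one_mul])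
      (fun e => F.not_mem (by rw [eq_inv_of_mul_eq_one_right e]; exact inv_mem (mem_zpowers x)))
      (hexp z hzW) hsxy hsz ((hWmem.1 hzW).1.symm.mul_left (hWmem.1 hzW).2.symm)
    have hm' : (x * y) ^ m = z := hm
    have hz1 : z = 1 := by
      refine eq_one_of_inverted (hexp z hzW) ?_ (hrw.mul_right hrw')
      rw [← hm', ← conj_zpow, show r * (x * y) * r⁻¹ = r * x * r⁻¹ * (r * y * r⁻¹) by group, hrx, hry,
        ← hxy.symm.inv_inv.eq, ← mul_inv_rev, inv_zpow]
    have hsw : s * w * s⁻¹ = w⁻¹ := eq_inv_of_mul_eq_one_right hz1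
    have hcw : Commute (s * t) w := by
      refine mul_inv_eq_iff_eq_mul.1 ?_
      rw [show s * t * w * (s * t)⁻¹ = s * (t * w * t⁻¹) * s⁻¹ by group, hfix w hw hrw, conj_inv.symm, hsw, inv_inv]
    have hst2 : (s * t) ^ 2 = t' * t := by
      rw [pow_two, show s * t * (s * t) = s * t * s⁻¹ * (s * s) * t by group, hst, hs, mul_one]
    have h4 : orderOf (s * t) = 2 ^ (1 + 1) := orderOf_eq_prime_pow (p := 2) (n := 1)
      (by rw [pow_one, hst2]; exact fun e => ht'ne (by rw [eq_inv_of_mul_eq_one_left e, inv_eq_of_mul_eq_one_left ht]))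
      (by rw [show 2 ^ (1 + 1) = 2 * 2 from rfl, pow_mul, hst2, pow_two, sq_of_commute ht' ht htt'.symm])
    exact h.not_commute_four (a := s * t) (y := w) h4 (orderOf_three (hexp w hw) hw1) hcw
  refine mem_of_fixed (p := 2) (q := 3) (T := F.plane) (by norm_num) (by rw [pow_two, ht]) (by rw [pow_two, ht'])
    htt' ht1 ?_ hWp htW ht'W (fun i j hne w hw hc => ?_) (hWmem.2 ⟨hgx, hgy⟩)
  · rintro ⟨i, hi⟩
    rcases zpow_two_cases ht i with e | e
    · exact ht'1 (by rw [← hi]; exact e)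
    · exact ht'ne (by rw [← hi]; exact e)
  · rcases zpow_two_cases ht i with e1 | e1 <;> rcases zpow_two_cases ht' j with e2 | e2 <;>
      rw [e1, e2] at hne hc
    · exact absurd (one_mul (1 : G)) hne
    · rw [one_mul] at hc
      exact zpowers_le.2 F.x_mem (no_nine h hA hcore ht' ht'1 hx hx1 (hexp w hw) ht'x hc (hWmem.1 hw).1.symm)
    · rw [mul_one] at hc
      exact zpowers_le.2 F.y_mem (no_nine h hA hcore ht ht1 hy hy1 (hexp w hw) hty hc (hWmem.1 hw).2.symm)
    · rw [hfix1 w hw hc]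
      exact one_mem _

theorem Frame.acts_app (F : Frame t t' s x y) {n : G} {A B : V} (hA : n * x * n⁻¹ = pt x y A)
    (hB : n * y * n⁻¹ = pt x y B) : Acts x y n (app A.1 B.1 A.2 B.2) := fun v => by
  obtain ⟨i, j⟩ := v
  rw [pt, show n * (x ^ i.val * y ^ j.val) * n⁻¹ = n * x ^ i.val * n⁻¹ * (n * y ^ j.val * n⁻¹) by group,
    ← conj_pow, ← conj_pow, hA, hB, ← F.pt_nsmul, ← F.pt_nsmul, ← F.pt_add]
  congr 1
  refine Prod.ext ?_ ?_ <;> simp [app, nsmul_eq_mul, mul_comm]

theorem Frame.acts_t (F : Frame t t' s x y) : Acts x y t tV := by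
  have h := F.acts_app (n := t) (A := (2, 0)) (B := (0, 1))
    (F.htx.trans (show x⁻¹ = x ^ 2 * y ^ 0 by
      rw [pow_zero, mul_one]; exact inv_eq_of_mul_eq_one_left (by rw [← pow_succ, F.hx])))
    (by rw [F.hty.eq, mul_inv_cancel_right]; exact (show x ^ 0 * y ^ 1 = y by simp).symm)
  rwa [show app (2 : ZMod 3) 0 0 1 = tV from funext (by decide)] at h

theorem Frame.acts_s (F : Frame t t' s x y) : Acts x y s sV := by
  have h := F.acts_app (n := s) (A := (0, 1)) (B := (1, 0))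
    (F.hsx.trans (show y = x ^ 0 * y ^ 1 by simp)) (F.hsy.trans (show x = x ^ 1 * y ^ 0 by simp))
  rwa [show app (0 : ZMod 3) 1 1 0 = sV from funext (by decide)] at h

theorem Frame.not_long (F : Frame t t' s x y) (h : OrdSix G) {n : G} {f : V → V} (hn : Acts x y n f) :
    ¬ Long f := fun hl => by
  have h0 := orderOf_pos n
  have h6 := h n
  have h1 := hn.pow (orderOf n) (1, 0)
  rw [pow_orderOf_eq_one, one_mul, inv_one, mul_one] at h1
  refine hl ⟨orderOf n - 1, by omega⟩ ?_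
  rw [show orderOf n - 1 + 1 = orderOf n by omega]
  exact (F.pt_injective h1).symm

/-- The normalizer of the plane acts by monomial matrices. -/
theorem Frame.mono_of_normalizer (F : Frame t t' s x y) (h : OrdSix G) {n : G}
    (hn : n ∈ normalizer (F.plane : Set G)) :
    ∃ A B : V, Mono A.1 B.1 A.2 B.2 ∧ n * x * n⁻¹ = pt x y A ∧ n * y * n⁻¹ = pt x y B := by
  obtain ⟨A, hA⟩ := (mem_normalizer_iff.1 hn x).1 F.x_mem
  obtain ⟨B, hB⟩ := (mem_normalizer_iff.1 hn y).1 F.y_mem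
  have hM := F.acts_app hA.symm hB.symm
  refine ⟨A, B, ?_, hA.symm, hB.symm⟩
  have hinj : ∀ v : V, app A.1 B.1 A.2 B.2 v = 0 → v = 0 := fun v hv => by
    refine F.pt_eq_one ((conj_eq_one_iff (a := n)).1 ?_)
    rw [hM v, hv, Frame.pt_zero]
  refine (Grid.mono_or_long _ _ _ _ hinj).resolve_right fun hl => ?_
  rcases hl with e | e | e
  · exact F.not_long h (hM.mul F.acts_t) e
  · exact F.not_long h ((hM.mul F.acts_t).mul F.acts_s) e
  · exact F.not_long h ((hM.mul hM).mul F.acts_s) e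

end Cfsg.Lib.Recog.OrderSix.Six
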