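import Cfsg.Agent.Lib.Recog.OrderSix.Six.Basic

/-!
# Element orders at most six: a four-group moved by an element of order three inverted by an element
of a normaliser
-/

set_option autoImplicit false
set_option linter.unusedSectionVars false
set_option linter.style.haveILetI false

namespace Cfsg.Lib.Recog.OrderSix.Six

open Subgroup
open Cfsg.Lib

universe u

variable {G : Type u} [Group G] [Finite G]

/-- If `w` inverts `y` and both normalize a 2-group not centralized by `y`, then `y` moves a four-group of it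
centralized by `w`. -/
theorem exists_moved (h : OrdSix G) {R : Subgroup G} (hR : IsPGroup 2 R) {y w : G} (hy : y ^ 3 = 1)
    (hyR : ∀ r ∈ R, y * r * y⁻¹ ∈ R) (hwR : ∀ r ∈ R, w * r * w⁻¹ ∈ R) (hwy : w * y * w⁻¹ = y⁻¹)
    (hw2 : ∀ r ∈ R, Commute (w * w) r) (hw4 : w * w * (w * w) = 1) (hmove : ∃ r ∈ R, ¬ Commute r y) :
    ∃ a ∈ R, a * a = 1 ∧ a ≠ 1 ∧ Commute a (y * a * y⁻¹) ∧ a * (y * a * y⁻¹) * (y⁻¹ * a * y) = 1 ∧
      w * a * w⁻¹ = a := by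
  classical
  haveI : Fact (Nat.Prime 2) := ⟨Nat.prime_two⟩
  set S := {X : Subgroup G | X ≤ R ∧ (∀ x ∈ X, y * x * y⁻¹ ∈ X ∧ w * x * w⁻¹ ∈ X) ∧ ∃ x ∈ X, ¬ Commute x y} with hS
  obtain ⟨X, ⟨hXR, hXi, x₀, hx₀, hx₀y⟩, hmin⟩ := (Set.toFinite S).exists_minimal
    ⟨R, le_rfl, fun x hx => ⟨hyR x hx, hwR x hx⟩, hmove⟩
  have hXy : ∀ x ∈ X, y * x * y⁻¹ ∈ X := fun x hx => (hXi x hx).1
  have hXw : ∀ x ∈ X, w * x * w⁻¹ ∈ X := fun x hx => (hXi x hx).2
  have hy2 : y⁻¹ = y * y := inv_eq_of_mul_eq_one_left (by rw [← hy]; simp [pow_succ, mul_assoc])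
  have hXy' : ∀ x ∈ X, y⁻¹ * x * y ∈ X := fun x hx => by
    have := hXy _ (hXy x hx)
    rwa [show y * (y * x * y⁻¹) * y⁻¹ = y * y * x * (y * y)⁻¹ by group, ← hy2, inv_inv] at this
  set D := Subgroup.closure ((fun x => x * x) '' (X : Set G)) with hD
  have hDX : D ≤ X := (Subgroup.closure_le X).2 (by rintro _ ⟨x, hx, rfl⟩; exact mul_mem hx hx)
  have hDi : ∀ c : G, (∀ x ∈ X, c * x * c⁻¹ ∈ X) → ∀ d ∈ D, c * d * c⁻¹ ∈ D := fun c hc d hd => by
    have hle : D ≤ D.comap (MulAut.conj c).toMonoidHom := (Subgroup.closure_le _).2 (by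
      rintro _ ⟨x, hx, rfl⟩
      show c * (x * x) * c⁻¹ ∈ D
      exact Subgroup.subset_closure ⟨c * x * c⁻¹, hc x hx, by group⟩)
    exact hle hd
  have hDy : ∀ d ∈ D, Commute d y := fun d hd => by
    by_contra hne
    have hXD : X ≤ D := hmin ⟨hDX.trans hXR, fun x hx => ⟨hDi y hXy x hx, hDi w hXw x hx⟩, d, hd, hne⟩ hDX
    haveI : Nontrivial X := ⟨⟨x₀, hx₀⟩, 1, fun e => hx₀y (by
      rw [show x₀ = 1 from congrArg Subtype.val e]; exact Commute.one_left y)⟩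
    have hXp : IsPGroup 2 X := hR.to_le hXR
    refine PGroup.frattini_ne_top (G := X) (eq_top_iff.2 fun x _ => ?_)
    have hle : D ≤ (frattini X).map X.subtype := (Subgroup.closure_le _).2 (by
      rintro _ ⟨v, hv, rfl⟩
      exact ⟨⟨v, hv⟩ ^ 2, PGroup.pow_mem_frattini hXp _, by simp [pow_two]⟩)
    obtain ⟨v, hv, hvx⟩ := hle (hXD x.2)
    rwa [← Subtype.ext (show (v : G) = x from hvx)]
  have hcomm : ∀ a ∈ X, ∀ b ∈ X, a * b * a⁻¹ * b⁻¹ ∈ D := fun a ha b hb => by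
    rw [show a * b * a⁻¹ * b⁻¹ = a * b * (a * b) * (b⁻¹ * a⁻¹ * b * (b⁻¹ * a⁻¹ * b)) * (b⁻¹ * b⁻¹) by group]
    exact mul_mem (mul_mem (Subgroup.subset_closure ⟨_, mul_mem ha hb, rfl⟩)
      (Subgroup.subset_closure ⟨_, mul_mem (mul_mem (inv_mem hb) (inv_mem ha)) hb, rfl⟩))
      (Subgroup.subset_closure ⟨_, inv_mem hb, rfl⟩)
  have hwwX : ∀ x ∈ X, w * (w * x * w⁻¹) * w⁻¹ = x := fun x hx => by
    calc w * (w * x * w⁻¹) * w⁻¹ = w * w * x * (w * w)⁻¹ := by group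
      _ = x := by rw [(hw2 x (hXR hx)).eq, mul_inv_cancel_right]
  have hwy' : w * y⁻¹ * w⁻¹ = y := by
    rw [show w * y⁻¹ * w⁻¹ = (w * y * w⁻¹)⁻¹ by group, hwy, inv_inv]
  have hfix : ∃ r ∈ X, ¬ Commute r y ∧ ∃ f ∈ D, w * r * w⁻¹ = r * f := by
    by_contra hne
    push Not at hne
    have hall : ∀ x ∈ X, Commute (x⁻¹ * (w * x * w⁻¹)) y := fun x hx => by
      have hr1 : Commute (x * (w * x * w⁻¹)) y := by
        by_contra hc
        refine hne _ (mul_mem hx (hXw x hx)) hc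
          ((w * x * w⁻¹)⁻¹ * x⁻¹ * (w * x * w⁻¹) * x) ?_ ?_
        · have := hcomm _ (inv_mem (hXw x hx)) _ (inv_mem hx)
          rwa [inv_inv, inv_inv] at this
        · rw [show w * (x * (w * x * w⁻¹)) * w⁻¹ = w * x * w⁻¹ * (w * (w * x * w⁻¹) * w⁻¹) by group, hwwX x hx]
          group
      rw [show x⁻¹ * (w * x * w⁻¹) = (x * x)⁻¹ * (x * (w * x * w⁻¹)) by group]
      exact (hDy _ (Subgroup.subset_closure ⟨x, hx, rfl⟩)).inv_left.mul_left hr1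
    set m := x₀⁻¹ * (w * x₀ * w⁻¹) with hm
    set m' := (y * x₀ * y⁻¹)⁻¹ * (w * (y * x₀ * y⁻¹) * w⁻¹) with hm'
    set n := (y * x₀ * y⁻¹)⁻¹ * (y⁻¹ * x₀ * y) with hn
    have hmy : Commute m y := hall x₀ hx₀
    have hny : Commute n y := by
      have e : n = m' * m⁻¹ := by
        have e1 : w * (y * x₀ * y⁻¹) * w⁻¹ = y⁻¹ * (x₀ * m) * y := by
          calc w * (y * x₀ * y⁻¹) * w⁻¹ = (w * y * w⁻¹) * (w * x₀ * w⁻¹) * (w * y⁻¹ * w⁻¹) := by group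
            _ = y⁻¹ * (x₀ * m) * y := by rw [hwy, hwy', hm]; group
        rw [hm', e1, hn, show y⁻¹ * (x₀ * m) * y = y⁻¹ * x₀ * (m * y) by group, hmy.eq]
        group
      rw [e]
      exact (hall _ (hXy x₀ hx₀)).mul_left hmy.inv_left
    have hcn : y * n * y⁻¹ = n := by rw [← hny.eq, mul_inv_cancel_right]
    have hn' : x₀⁻¹ * (y * x₀ * y⁻¹) = n := by
      calc x₀⁻¹ * (y * x₀ * y⁻¹) = y * (y * n * y⁻¹) * y⁻¹ := by
            rw [hn, show y * (y * ((y * x₀ * y⁻¹)⁻¹ * (y⁻¹ * x₀ * y)) * y⁻¹) * y⁻¹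
              = y ^ 3 * x₀⁻¹ * (y ^ 3)⁻¹ * (y * x₀ * y⁻¹) by simp [pow_succ, mul_assoc], hy]
            group
        _ = n := by rw [hcn, hcn]
    have hstep : y * x₀ * y⁻¹ = x₀ * n := by rw [← hn']; group
    have hn3 : n * n * n = 1 := by
      have e2 : y * (y * x₀ * y⁻¹) * y⁻¹ = x₀ * (n * n) := by
        rw [hstep, show y * (x₀ * n) * y⁻¹ = y * x₀ * y⁻¹ * (y * n * y⁻¹) by group, hstep, hcn, mul_assoc]
      have e3 : y * (y * (y * x₀ * y⁻¹) * y⁻¹) * y⁻¹ = x₀ * (n * n * n) := by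
        rw [e2, show y * (x₀ * (n * n)) * y⁻¹ = y * x₀ * y⁻¹ * (y * n * y⁻¹) * (y * n * y⁻¹) by group, hstep, hcn]
        group
      have e : x₀ = x₀ * (n * n * n) := by
        rw [← e3, show y * (y * (y * x₀ * y⁻¹) * y⁻¹) * y⁻¹ = y ^ 3 * x₀ * (y ^ 3)⁻¹ by simp [pow_succ, mul_assoc],
          hy]
        group
      exact mul_eq_left.1 e.symm
    have hnX : n ∈ X := mul_mem (inv_mem (hXy x₀ hx₀)) (hXy' x₀ hx₀)
    obtain ⟨k, hk⟩ := IsPGroup.iff_orderOf.1 (hR.to_le hXR) ⟨n, hnX⟩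
    rw [Subgroup.orderOf_mk] at hk
    have hd3 : orderOf n ∣ 3 := orderOf_dvd_of_pow_eq_one (by simpa [pow_succ, mul_assoc] using hn3)
    rcases (Nat.dvd_prime Nat.prime_three).1 hd3 with e | e
    · refine hx₀y ?_
      rw [orderOf_eq_one_iff.1 e, mul_one, mul_inv_eq_iff_eq_mul] at hstep
      exact hstep.symm
    · have := Nat.prime_three.dvd_of_dvd_pow (show 3 ∣ 2 ^ k by rw [← hk, e])
      omega
  obtain ⟨r, hr, hry, f, hf, hwr⟩ := hfix
  have hfy : Commute f y := hDy f hf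
  set b := y * r * y⁻¹ * (y * (y * r * y⁻¹) * y⁻¹)⁻¹ with hb
  have hbX : b ∈ X := mul_mem (hXy r hr) (inv_mem (hXy _ (hXy r hr)))
  set r₁ := y * r * y⁻¹ with hr₁
  set r₂ := y * r₁ * y⁻¹ with hr₂
  have hr₀ : y * r₂ * y⁻¹ = r := by
    rw [hr₂, hr₁, show y * (y * (y * r * y⁻¹) * y⁻¹) * y⁻¹ = y ^ 3 * r * (y ^ 3)⁻¹ by
      simp [pow_succ, mul_assoc], hy]
    group
  have hb' : y * b * y⁻¹ = r₂ * r⁻¹ := by
    calc y * b * y⁻¹ = y * r₁ * y⁻¹ * (y * r₂ * y⁻¹)⁻¹ := by rw [hb]; group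
      _ = r₂ * r⁻¹ := by rw [hr₀, ← hr₂]
  have hb'' : y⁻¹ * b * y = r * r₁⁻¹ := by
    rw [hb, hr₂, hr₁]; group
  have hprod : b * (y * b * y⁻¹) * (y⁻¹ * b * y) = 1 := by rw [hb', hb'', hb]; group
  have hb1 : b ≠ 1 := fun e => hry (by
    rw [hb, mul_inv_eq_one] at e
    have e1 : r₁ = r := by
      calc r₁ = y * r₁ * y⁻¹ := by rw [← hr₂]; exact e
        _ = y * r₂ * y⁻¹ := by rw [← e]
        _ = r := hr₀
    rw [hr₁, mul_inv_eq_iff_eq_mul] at e1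
    exact e1.symm)
  have hwb : w * b * w⁻¹ = b⁻¹ := by
    have hfy' : ∀ k : G, Commute f k → k * f * k⁻¹ = f := fun k hk => by rw [← hk.eq, mul_inv_cancel_right]
    have hyr : y⁻¹ * r * y = r₂ := by rw [← hr₀]; group
    have hw1 : w * r₁ * w⁻¹ = r₂ * f := by
      rw [hr₁, show w * (y * r * y⁻¹) * w⁻¹ = (w * y * w⁻¹) * (w * r * w⁻¹) * (w * y * w⁻¹)⁻¹ by group, hwy, hwr,
        inv_inv, show y⁻¹ * (r * f) * y = y⁻¹ * r * (f * y) by group, hfy.eq, ← hyr]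
      group
    have hw2' : w * r₂ * w⁻¹ = r₁ * f := by
      rw [hr₂, show w * (y * r₁ * y⁻¹) * w⁻¹ = (w * y * w⁻¹) * (w * r₁ * w⁻¹) * (w * y * w⁻¹)⁻¹ by group, hwy, hw1,
        inv_inv, show y⁻¹ * (r₂ * f) * y = y⁻¹ * r₂ * (f * y) by group, hfy.eq, hr₂]
      group
    calc w * b * w⁻¹ = (w * r₁ * w⁻¹) * (w * r₂ * w⁻¹)⁻¹ := by rw [hb]; group
      _ = b⁻¹ := by rw [hw1, hw2', hb]; group
  set b' := y * b * y⁻¹ with hb'd
  set b'' := y⁻¹ * b * y with hb''d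
  have hb'X : b' ∈ X := hXy b hbX
  have hεD : b * b ∈ D := Subgroup.subset_closure ⟨b, hbX, rfl⟩
  have hεy := hDy _ hεD
  have hb'2 : b' * b' = b * b := by
    rw [hb'd, show y * b * y⁻¹ * (y * b * y⁻¹) = y * (b * b) * y⁻¹ by group, ← hεy.eq, mul_inv_cancel_right]
  have hb''2 : b'' * b'' = b * b := by
    rw [hb''d, show y⁻¹ * b * y * (y⁻¹ * b * y) = y⁻¹ * (b * b * y) by group, hεy.eq]
    group
  have hbb' : b * b' = b''⁻¹ := eq_inv_of_mul_eq_one_left hprod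
  have hwb' : w * b' * w⁻¹ = b''⁻¹ := by
    calc w * b' * w⁻¹ = (w * y * w⁻¹) * (w * b * w⁻¹) * (w * y * w⁻¹)⁻¹ := by rw [hb'd]; group
      _ = b''⁻¹ := by rw [hwy, hwb, hb''d]; group
  obtain ⟨k, hk⟩ := IsPGroup.iff_orderOf.1 hR ⟨b, hXR hbX⟩
  rw [Subgroup.orderOf_mk] at hk
  have hb4 : b * b * (b * b) = 1 := by
    rw [← h.two_pow_four hk]; simp [pow_succ, mul_assoc]
  by_cases hε : b * b = 1
  · have hcm : Commute b b' := commute_of_sq hε (by rw [hb'2, hε]) (by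
      rw [hbb', ← mul_inv_rev, hb''2, hε, inv_one])
    refine ⟨b, hXR hbX, hε, hb1, hcm, hprod, ?_⟩
    rw [hwb, inv_eq_of_mul_eq_one_left hε]
  · exfalso
    set u := w * b' with hu
    have hu2 : u * u = w * w * b * (b * b) := by
      calc u * u = w * b' * w⁻¹ * (w * w * b') := by rw [hu]; group
        _ = b''⁻¹ * (b' * (w * w)) := by rw [hwb', (hw2 b' (hXR hb'X)).eq]
        _ = b * (b' * b') * (w * w) := by rw [← hbb']; group
        _ = w * w * (b * (b * b)) := by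
          rw [hb'2, (hw2 _ (mul_mem (hXR hbX) (mul_mem (hXR hbX) (hXR hbX)))).eq]
        _ = w * w * b * (b * b) := by group
    have hu4 : u ^ 4 = b * b := by
      rw [show u ^ 4 = u * u * (u * u) by simp [pow_succ, mul_assoc], hu2]
      calc w * w * b * (b * b) * (w * w * b * (b * b))
          = w * w * (b * b * b * (w * w)) * (b * b * b) := by group
        _ = w * w * (w * w) * (b * b * (b * b)) * (b * b) := by
          rw [← (hw2 _ (mul_mem (mul_mem (hXR hbX) (hXR hbX)) (hXR hbX))).eq]; group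
        _ = b * b := by rw [hw4, hb4]; group
    haveI : Fact (Nat.Prime 2) := ⟨Nat.prime_two⟩
    have h8 : orderOf u = 2 ^ (2 + 1) := orderOf_eq_prime_pow (p := 2) (n := 2)
      (by rw [show (2 : ℕ) ^ 2 = 4 from rfl, hu4]; exact hε)
      (by rw [show (2 : ℕ) ^ (2 + 1) = 4 * 2 from rfl, pow_mul, hu4, pow_two, hb4])
    have := h u
    omega

end Cfsg.Lib.Recog.OrderSix.Six
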