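import Cfsg.Agent.Lib.Recog.OrderSix.Six.PureCase
import Cfsg.Agent.Lib.Recog.OrderSix.Six.Moved

/-!
# Element orders at most six: the centralizer of an element of order three has trivial two-core
-/

set_option autoImplicit false
set_option linter.unusedSectionVars false
set_option linter.style.haveILetI false

namespace Cfsg.Lib.Recog.OrderSix.Six

open Subgroup
open Cfsg.Lib

universe u

variable {G : Type u} [Group G] [Finite G]

/-- The statement of the second enumeration. -/
def EnumFive (G : Type u) [Group G] : Prop :=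
  ∀ z x y : G, z * z = 1 → x ^ 3 = 1 → x ≠ 1 → z * x * z⁻¹ = x⁻¹ → y ^ 3 = 1 → y ≠ 1 → Central z y →
    Five z x y ∧ fiveW x y * fiveW x y = 1 ∧ Commute (fiveW x y) z ∧ fiveW x y * y * (fiveW x y)⁻¹ = y⁻¹

/-- The statement of the third enumeration. -/
def EnumFour (G : Type u) [Group G] : Prop :=
  ∀ z x y a : G, z * z = 1 → x ^ 3 = 1 → z * x * z⁻¹ = x⁻¹ → y ^ 3 = 1 → Central z y → Five z x y →
    a * a = 1 → Commute a z → Commute a (fiveW x y) → Commute a (y * a * y⁻¹) →
      a * (y * a * y⁻¹) * (y⁻¹ * a * y) = 1 → a = 1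

theorem orderOf_three {y : G} (hy : y ^ 3 = 1) (hy1 : y ≠ 1) : orderOf y = 3 := by
  haveI : Fact (Nat.Prime 3) := ⟨Nat.prime_three⟩
  exact orderOf_eq_prime hy hy1

/-- An element of order three commuting with an involution moves the two-core of its centralizer. -/
theorem exists_not_commute (h : OrdSix G) {t y : G} (ht : t * t = 1) (ht1 : t ≠ 1)
    (hcore : Cfsg.oddCore (centralizer ({t} : Set G)) = ⊥) (hy : orderOf y = 3) (hty : Commute y t) :
    ∃ r ∈ cR 2 t, ¬ Commute r y := by
  by_contra hne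
  push Not at hne
  have hm := core_self h ht ht1 hcore hty fun r hr => (hne r hr).symm
  have h1 := sq_one_of_mem h (isPGroup_cR 2 t) hy hm (Commute.refl y)
  have h3 : orderOf y ∣ 2 := orderOf_dvd_of_pow_eq_one (by rw [pow_two, h1])
  rw [hy] at h3; omega

theorem cR_three_eq_bot [IsSimpleGroup G] (hna : ¬ IsMulCommutative G) (h : OrdSix G) (hpure : EnumPure G)
    (hfive : EnumFive G) (hfour : EnumFour G) (hO : Cfsg.oddCore G = ⊥)
    (hcore : ∀ t : G, orderOf t = 2 → Cfsg.oddCore (centralizer ({t} : Set G)) = ⊥) {y : G}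
    (hy : orderOf y = 3) : cR 2 y = ⊥ := by
  by_contra hne
  obtain ⟨z, hzm, hz1, hz⟩ := exists_invol_cR hne
  have hzy : Commute z y := commute_of_mem_cR hzm
  by_cases hp : Pure z
  · exact PureCase.main hna h hpure hO hcore hz hz1 hp hy hzy
  obtain ⟨x, hx, hzx, hx1⟩ : ∃ x : G, x ^ 3 = 1 ∧ z * x * z⁻¹ = x⁻¹ ∧ x ≠ 1 := by
    simp only [Pure] at hp
    push Not at hp
    exact hp
  have hy3 : y ^ 3 = 1 := hy ▸ pow_orderOf_eq_one y
  have hy1 : y ≠ 1 := fun e => by rw [e, orderOf_one] at hy; omega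
  have hc := central_of_mem h hy hzm hz
  obtain ⟨h5, hw, hwz, hwy⟩ := hfive z x y hz hx hx1 hzx hy3 hy1 hc
  set w := fiveW x y with hwd
  obtain ⟨a, haR, ha, ha1, hay, hprod, hwa⟩ := exists_moved h (isPGroup_cR 2 z) hy3
    (fun r hr => conj_mem_cR hzy.symm hr) (fun r hr => conj_mem_cR hwz hr) hwy
    (fun r _ => by rw [hw]; exact Commute.one_left r) (by rw [hw, one_mul])
    (exists_not_commute h hz hz1 (hcore z (Invol.orderOf_eq_two_of hz1 hz)) hy hzy.symm)
  have haw : Commute a w := (mul_inv_eq_iff_eq_mul.1 hwa).symm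
  exact ha1 (hfour z x y a hz hx hzx hy3 hc h5 ha (commute_of_mem_cR haR) haw hay hprod)

end Cfsg.Lib.Recog.OrderSix.Six
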