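import Cfsg.Agent.Lib.Recog.OrderSix.Six.Final
import Cfsg.Agent.Lib.Recog.OrderSix.RankTwo
import Cfsg.Agent.Lib.Recog.OrderSix.Cores
import Cfsg.Agent.Lib.Recog.OrderSix.General

/-!
# Element orders at most six: the simple groups, from the four enumerations
-/

set_option autoImplicit false
set_option linter.unusedSectionVars false
set_option linter.style.haveILetI false

namespace Cfsg.Lib.Recog.OrderSix.Six

universe u

/-- The four enumerations. -/
def Enums (G : Type u) [Group G] : Prop := EnumPure G ∧ EnumFive G ∧ EnumFour G ∧ EnumSix G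

/-- The simple groups with element orders at most six of order less than `n`. -/
theorem small (henum : ∀ (H : Type u) [Group H] [Finite H], OrdSix H → Enums H) : ∀ n : ℕ, Small.{u} n := by
  intro n
  induction n with
  | zero => exact fun H _ _ _ hc => absurd hc (Nat.not_lt_zero _)
  | succ n ih =>
    intro H _ _ _ hc hna ho
    rcases Nat.lt_succ_iff_lt_or_eq.1 hc with hlt | heq
    · exact ih H hlt hna ho
    by_cases hr : Cfsg.PRankLE 2 2 H
    · exact rank_two hna ho hr
    by_cases h6 : ∃ g : H, orderOf g = 6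
    · obtain ⟨g, hg⟩ := h6
      obtain ⟨h1, h2, h3, h4⟩ := henum H ho
      exact (no_six hna ho (RankTwo.oddCore_eq_bot hna) (cores hna ho (heq ▸ ih) hr) h1 h2 h3 h4 hg).elim
    · exact RankTwo.of_ordFive hna ho fun g hg => h6 ⟨g, hg⟩

/-- The groups with element orders exactly one to six, from the four enumerations. -/
theorem general_of_enums (henum : ∀ (H : Type u) [Group H] [Finite H], OrdSix H → Enums H)
    {G : Type u} [Group G] [Finite G] (h : Set.range (orderOf : G → ℕ) = {k : ℕ | 1 ≤ k ∧ k ≤ 6}) :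
    (∃ (N : Subgroup G) (_ : N.Normal), Cfsg.IsElementaryAbelian 5 N ∧
        (Nonempty (G ⧸ N ≃* QuaternionGroup 3) ∨ Nonempty (G ⧸ N ≃* Matrix.SpecialLinearGroup (Fin 2) (ZMod 3)))) ∨
      (∃ (N : Subgroup G) (_ : N.Normal), Cfsg.IsElementaryAbelian 2 N ∧ Nonempty (G ⧸ N ≃* ↥(alternatingGroup (Fin 5)))) ∨
      Nonempty (G ≃* Equiv.Perm (Fin 5)) ∨ Nonempty (G ≃* Equiv.Perm (Fin 6)) :=
  general (fun H _ _ _ hna ho => small henum (Nat.card H + 1) H (Nat.lt_succ_self _) hna ho) h

end Cfsg.Lib.Recog.OrderSix.Six
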