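import Cfsg.Agent.Lib.Recog.OrderSix.Six.NoA4

/-!
# Element orders at most six: abelian subgroups of order nine and four-groups in centralizers
-/

set_option autoImplicit false
set_option linter.unusedSectionVars false
set_option linter.style.haveILetI false

namespace Cfsg.Lib.Recog.OrderSix.Six

open Subgroup
open Cfsg.Lib

universe u

variable {G : Type u} [Group G] [Finite G]

/-- Every involution centralizer is without core. -/
def NoCores (G : Type u) [Group G] : Prop :=
  ∀ t : G, orderOf t = 2 → Cfsg.oddCore (centralizer ({t} : Set G)) = ⊥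

/-- An involution centralizes no elementary group of order nine. -/
theorem no_nine (h : OrdSix G) (hA : NoA4 G) (hcore : NoCores G) {t u k : G} (ht : t * t = 1) (ht1 : t ≠ 1)
    (hu : u ^ 3 = 1) (hu1 : u ≠ 1) (hk : k ^ 3 = 1) (htu : Commute t u) (htk : Commute t k)
    (huk : Commute u k) : k ∈ zpowers u := by
  by_contra hmem
  haveI : Fact (Nat.Prime 2) := ⟨Nat.prime_two⟩
  haveI : Fact (Nat.Prime 3) := ⟨Nat.prime_three⟩
  have hk1 : k ≠ 1 := fun e => hmem (e ▸ one_mem _)
  obtain ⟨r, hr, hrk⟩ :=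
    exists_not_commute h ht ht1 (hcore t (Invol.orderOf_eq_two_of ht1 ht)) (orderOf_three hk hk1) htk.symm
  refine hrk (commute_of_fixed (p := 3) (q := 2) (by norm_num) hu hk huk hu1 hmem (isPGroup_cR 2 t)
    (fun x hx => conj_mem_cR htu.symm hx) (fun x hx => conj_mem_cR htk.symm hx) (fun i j hne x hx hc => ?_) r hr)
  set e := u ^ i * k ^ j with he
  have he3 : e ^ 3 = 1 := by
    rw [he, (huk.zpow_zpow i j).mul_pow, ← zpow_natCast, ← zpow_natCast (k ^ j), ← zpow_mul, ← zpow_mul, mul_comm i,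
      mul_comm j, zpow_mul, zpow_mul, zpow_natCast, zpow_natCast, hu, hk, one_zpow, one_zpow, one_mul]
  have hek : Commute e k := (huk.zpow_left i).mul_left ((Commute.refl k).zpow_left j)
  have hoe := orderOf_three he3 hne
  have hR := isPGroup_cR 2 t
  have hx2 := sq_one_of_mem h hR hoe hx hc.symm
  have hx' : k * x * k⁻¹ ∈ cR 2 t := conj_mem_cR htk.symm hx
  have hc' : Commute (k * x * k⁻¹) e := (hek.symm.mul_left hc.symm).mul_left hek.symm.inv_left
  exact hA e k x he3 hne hk hek hx2 hc.symm (commute_of_sq hx2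
    (sq_one_of_mem h hR hoe hx' hc') (sq_one_of_mem h hR hoe (mul_mem hx hx') (hc.symm.mul_left hc')))

/-- The centralizer of an element of order three has no four-group. -/
theorem no_two_invol (h : OrdSix G) (hbot : ∀ y : G, orderOf y = 3 → cR 2 y = ⊥) (hA : NoA4 G)
    (hcore : NoCores G) {y a b : G} (hy : orderOf y = 3) (ha : a * a = 1) (ha1 : a ≠ 1) (hb : b * b = 1)
    (hb1 : b ≠ 1) (hab : Commute a b) (hay : Commute a y) (hby : Commute b y) : a = b := by
  by_contra hne
  haveI : Fact (Nat.Prime 2) := ⟨Nat.prime_two⟩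
  haveI : Fact (Nat.Prime 3) := ⟨Nat.prime_three⟩
  have hy3 : y ^ 3 = 1 := hy ▸ pow_orderOf_eq_one y
  have hy1 : y ≠ 1 := fun e => by rw [e, orderOf_one] at hy; omega
  have hall : ∀ x ∈ cR 3 y, Commute x a := by
    refine commute_of_fixed (p := 2) (q := 3) (by norm_num) (by rw [pow_two, ha]) (by rw [pow_two, hb]) hab ha1
      (fun hm => ?_) (isPGroup_cR 3 y) (fun x hx => conj_mem_cR hay hx) (fun x hx => conj_mem_cR hby hx)
      fun i j hne' x hx hc => ?_
    · obtain ⟨i, hi⟩ := hm
      rcases zpow_two_cases ha i with e | e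
      · exact hb1 (by rw [← hi]; exact e)
      · exact hne (by rw [← hi]; exact e.symm)
    · have he : a ^ i * b ^ j * (a ^ i * b ^ j) = 1 := by
        refine sq_of_commute ?_ ?_ (hab.zpow_zpow i j)
        · rcases zpow_two_cases ha i with e | e <;> rw [e]; exacts [one_mul 1, ha]
        · rcases zpow_two_cases hb j with e | e <;> rw [e]; exacts [one_mul 1, hb]
      have hmem := no_nine h hA hcore he hne' hy3 hy1 (pow_three_of_mem h hx)
        ((hay.zpow_left i).mul_left (hby.zpow_left j)) hc (commute_of_mem_cR hx).symm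
      obtain ⟨m, rfl⟩ := hmem
      exact (hay.symm.zpow_left m)
  have hm := core_three_self h hy (hbot y hy) hay fun r hr => (hall r hr).symm
  exact ha1 (by
    calc a = a ^ 3 * (a * a)⁻¹ := by simp [pow_succ, mul_assoc]
      _ = 1 := by rw [pow_three_of_mem h hm, ha]; group)

/-- Some element of order six has a four-group in the centralizer of its involution moved by its part of
order three. -/
theorem exists_four [IsSimpleGroup G] (hna : ¬ IsMulCommutative G) (h : OrdSix G) (hO : Cfsg.oddCore G = ⊥)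
    (hbot : ∀ y : G, orderOf y = 3 → cR 2 y = ⊥) (hA : NoA4 G) (hcore : NoCores G) {t y : G} (ht : t * t = 1)
    (ht1 : t ≠ 1) (hy : orderOf y = 3) (hty : Commute t y) :
    ∃ y' a : G, orderOf y' = 3 ∧ Commute t y' ∧ a * a = 1 ∧ a ≠ 1 ∧ Commute a t ∧
      Commute a (y' * a * y'⁻¹) ∧ a * (y' * a * y'⁻¹) * (y'⁻¹ * a * y') = 1 := by
  haveI : Fact (Nat.Prime 2) := ⟨Nat.prime_two⟩
  have ho2 := Invol.orderOf_eq_two_of ht1 ht
  obtain ⟨g, hgt, hgne⟩ : ∃ g : G, Commute t (g * t * g⁻¹) ∧ g * t * g⁻¹ ≠ t := by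
    by_contra hne
    push Not at hne
    have hmem := ZStar.mem_center_of_isolated hO ⟨ho2, hne⟩
    rcases (inferInstance : (center G).Normal).eq_bot_or_eq_top with e | e
    · exact ht1 (by simpa [e] using hmem)
    · exact hna ⟨⟨fun a b => (mem_center_iff.1 (e ▸ mem_top a) b).symm⟩⟩
  set s := g * t * g⁻¹ with hsd
  have hs : s * s = 1 := by
    rw [hsd, show g * t * g⁻¹ * (g * t * g⁻¹) = g * (t * t) * g⁻¹ by group, ht]; group
  have hs1 : s ≠ 1 := fun e => ht1 (conj_eq_one_iff.1 (hsd ▸ e))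
  have hR := isPGroup_cR 2 t
  by_cases hsR : s ∈ cR 2 t
  · have hy3 : y ^ 3 = 1 := hy ▸ pow_orderOf_eq_one y
    set S := {X : Subgroup G | X ≤ cR 2 t ∧ (∀ x ∈ X, y * x * y⁻¹ ∈ X) ∧ ∃ x ∈ X, x * x = 1 ∧ x ≠ 1 ∧ x ≠ t}
      with hS
    obtain ⟨X, ⟨hXR, hXy, r, hr, hr2, hr1, hrt⟩, hmin⟩ := (Set.toFinite S).exists_minimal
      ⟨cR 2 t, le_rfl, fun x hx => conj_mem_cR hty.symm hx, s, hsR, hs, hs1, hgne⟩
    set r' := y * r * y⁻¹ with hr'd
    set r'' := y * r' * y⁻¹ with hr''d
    have hrot : y * r'' * y⁻¹ = r := by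
      rw [hr''d, hr'd, show y * (y * (y * r * y⁻¹) * y⁻¹) * y⁻¹ = y ^ 3 * r * (y ^ 3)⁻¹ by
        simp [pow_succ, mul_assoc], hy3]
      group
    have hr'' : y⁻¹ * r * y = r'' := by rw [← hrot]; group
    have hr' : r' ∈ X := hXy r hr
    have hr''X : r'' ∈ X := hXy r' hr'
    have hne : r' ≠ r := fun e => hrt (no_two_invol h hbot hA hcore hy hr2 hr1 ht ht1
      (commute_of_mem_cR (hXR hr)) (mul_inv_eq_iff_eq_mul.1 (hr'd ▸ e)).symm hty)
    have hsq : ∀ p : G, p * p = 1 → y * p * y⁻¹ * (y * p * y⁻¹) = 1 := fun p hp => by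
      rw [show y * p * y⁻¹ * (y * p * y⁻¹) = y * (p * p) * y⁻¹ by group, hp]; group
    have hr'2 : r' * r' = 1 := hsq r hr2
    have hr''2 : r'' * r'' = 1 := hsq r' hr'2
    have hcj : ∀ {p q : G}, Commute p q → Commute (y * p * y⁻¹) (y * q * y⁻¹) := fun hpq =>
      hpq.map (MulAut.conj y)
    by_cases hc : Commute r r'
    · have h2 : Commute r' r'' := hcj hc
      have h3 : Commute r'' r := by
        have := hcj h2
        rwa [hrot] at this
      refine ⟨y, r * r', hy, hty, sq_of_commute hr2 hr'2 hc, fun e => hne ?_,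
        (commute_of_mem_cR (hXR hr)).mul_left (commute_of_mem_cR (hXR hr')), ?_, ?_⟩
      · rw [eq_inv_of_mul_eq_one_right e, inv_eq_of_mul_eq_one_left hr2]
      · rw [show y * (r * r') * y⁻¹ = r' * r'' by rw [hr''d, hr'd]; group]
        exact (hc.mul_right h3.symm).mul_left ((Commute.refl r').mul_right h2)
      · rw [show y * (r * r') * y⁻¹ = r' * r'' by rw [hr''d, hr'd]; group,
          show y⁻¹ * (r * r') * y = r'' * r by rw [← hr'', hr'd]; group,
          show r * r' * (r' * r'') * (r'' * r) = r * (r' * r') * (r'' * r'') * r by group, hr'2, hr''2, mul_one,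
          mul_one, hr2]
    · exfalso
      set D := Subgroup.closure ((fun x => x * x) '' (X : Set G)) with hD
      have hDX : D ≤ X := (Subgroup.closure_le X).2 (by rintro _ ⟨x, hx, rfl⟩; exact mul_mem hx hx)
      have hDy : ∀ d ∈ D, y * d * y⁻¹ ∈ D := fun d hd => by
        have hle : D ≤ D.comap (MulAut.conj y).toMonoidHom := (Subgroup.closure_le _).2 (by
          rintro _ ⟨x, hx, rfl⟩
          show y * (x * x) * y⁻¹ ∈ D
          exact Subgroup.subset_closure ⟨y * x * y⁻¹, hXy x hx, by group⟩)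
        exact hle hd
      have hDt : ∀ d ∈ D, d * d = 1 → d ≠ 1 → d = t := fun d hd hd2 hd1 => by
        by_contra hdt
        have hXD : X ≤ D := hmin ⟨hDX.trans hXR, hDy, d, hd, hd2, hd1, hdt⟩ hDX
        haveI : Nontrivial X := ⟨⟨r, hr⟩, 1, fun e => hr1 (congrArg Subtype.val e)⟩
        have hXp : IsPGroup 2 X := hR.to_le hXR
        refine PGroup.frattini_ne_top (G := X) (eq_top_iff.2 fun x _ => ?_)
        have hle : D ≤ (frattini X).map X.subtype := (Subgroup.closure_le _).2 (by
          rintro _ ⟨v, hv, rfl⟩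
          exact ⟨⟨v, hv⟩ ^ 2, PGroup.pow_mem_frattini hXp _, by simp [pow_two]⟩)
        obtain ⟨v, hv, hvx⟩ := hle (hXD x.2)
        rwa [← Subtype.ext (show (v : G) = x from hvx)]
      have he : r * r' * (r * r') = t := by
        obtain ⟨n, hn⟩ := IsPGroup.iff_orderOf.1 hR ⟨r * r', hXR (mul_mem hr hr')⟩
        rw [Subgroup.orderOf_mk] at hn
        refine hDt _ (Subgroup.subset_closure ⟨_, mul_mem hr hr', rfl⟩) ?_ fun e => hc (commute_of_sq hr2 hr'2 e)
        rw [← h.two_pow_four hn]; simp [pow_succ, mul_assoc]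
      have hconj : ∀ p q : G, p * q * (p * q) = t →
          y * p * y⁻¹ * (y * q * y⁻¹) * (y * p * y⁻¹ * (y * q * y⁻¹)) = t := fun p q hpq => by
        rw [show y * p * y⁻¹ * (y * q * y⁻¹) * (y * p * y⁻¹ * (y * q * y⁻¹)) = y * (p * q * (p * q)) * y⁻¹ by group,
          hpq, ← hty.eq, mul_inv_cancel_right]
      have he' : r' * r'' * (r' * r'') = t := hconj _ _ he
      have he'' : r'' * r * (r'' * r) = t := by
        have := hconj _ _ he'
        rwa [hrot] at this
      have htR : ∀ p ∈ X, Commute t p := fun p hp => (commute_of_mem_cR (hXR hp)).symm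
      have hswap : ∀ p q : G, p ∈ X → p * p = 1 → q * q = 1 → p * q * (p * q) = t → q * p = t * (p * q) :=
        fun p q hp hp2 hq2 hpq => by
        calc q * p = p⁻¹ * (p * q * (p * q)) * q⁻¹ := by group
          _ = t * (p * q) := by
            rw [hpq, inv_eq_of_mul_eq_one_left hp2, inv_eq_of_mul_eq_one_left hq2, ← (htR p hp).eq, mul_assoc]
      have h1 : r' * r = t * (r * r') := hswap r r' hr hr2 hr'2 he
      have h3 : r'' * r = t * (r * r'') := by
        rw [hswap r'' r hr''X hr''2 hr2 he'', ← mul_assoc, ht, one_mul]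
      set m := r * r' * r'' with hm
      have hmy : Commute m y := by
        refine (mul_inv_eq_iff_eq_mul.1 ?_).symm
        calc y * m * y⁻¹ = (y * r * y⁻¹) * (y * r' * y⁻¹) * (y * r'' * y⁻¹) := by rw [hm]; group
          _ = r' * (r'' * r) := by rw [← hr'd, ← hr''d, hrot, mul_assoc]
          _ = t * (r' * r) * r'' := by rw [h3, ← mul_assoc, ← (htR r' hr').eq]; group
          _ = m := by rw [h1, hm, ← mul_assoc t t, ht, one_mul]
      have hm2 : m * m = t := by
        calc m * m = r * r' * (r'' * r) * r' * r'' := by rw [hm]; group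
          _ = r * (r' * t) * r * r'' * r' * r'' := by rw [h3]; group
          _ = t * (r * (r' * r)) * r'' * r' * r'' := by rw [← (htR r' hr').eq, ← mul_assoc r, ← (htR r hr).eq]; group
          _ = t * (t * (r * r)) * (r' * r'' * (r' * r'')) := by
              rw [h1, ← mul_assoc r t, ← (htR r hr).eq]; group
          _ = t := by rw [hr2, he', mul_one, ht, one_mul]
      have hmX : m ∈ cR 2 t := hXR (mul_mem (mul_mem hr hr') hr''X)
      exact ht1 (hm2 ▸ sq_one_of_mem h hR hy hmX hmy)
  · obtain ⟨b, hb, hb1, hbt, hsb⟩ :=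
      (mem_core_or_inverts h (h.not_five_dvd_centralizer ho2) hs hgt.symm).resolve_left hsR
    have hob := orderOf_three hb hb1
    obtain ⟨a, haR, ha, ha1, hab, hprod, -⟩ := exists_moved h hR hb (fun x hx => conj_mem_cR hbt hx)
      (fun x hx => conj_mem_cR hgt.symm hx) hsb (fun x _ => by rw [hs]; exact Commute.one_left x)
      (by rw [hs, one_mul]) (exists_not_commute h ht ht1 (hcore t ho2) hob hbt)
    exact ⟨b, a, hob, hbt.symm, ha, ha1, commute_of_mem_cR haR, hab, hprod⟩

end Cfsg.Lib.Recog.OrderSix.Six
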