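import Cfsg.Agent.Lib.Recog.OrderSix.Six.InvertCase
import Cfsg.Agent.Lib.Coprime.Generation

/-!
# Element orders at most six: no four-group in the centralizer of an element of order three is moved by
an element of order three of that centralizer
-/

set_option autoImplicit false
set_option linter.unusedSectionVars false
set_option linter.style.haveILetI false

namespace Cfsg.Lib.Recog.OrderSix.Six

open Subgroup
open Cfsg.Lib

universe u

variable {G : Type u} [Group G] [Finite G]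

theorem zpow_two_cases {a : G} (ha : a * a = 1) (i : ℤ) : a ^ i = 1 ∨ a ^ i = a := by
  rcases Int.even_or_odd' i with ⟨k, rfl | rfl⟩
  · left; rw [zpow_mul, zpow_two, ha, one_zpow]
  · right; rw [zpow_add, zpow_mul, zpow_two, ha, one_zpow, one_mul, zpow_one]

/-- Generation of a group by the fixed points of the elements of a noncyclic group of order `p²`. -/
theorem mem_of_fixed {p q : ℕ} [Fact p.Prime] [Fact q.Prime] (hpq : p ≠ q) {a b : G} {T : Subgroup G} (ha : a ^ p = 1)
    (hb : b ^ p = 1) (hab : Commute a b) (ha1 : a ≠ 1) (hba : b ∉ zpowers a) {A : Subgroup G}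
    (hA : IsPGroup q A) (haA : ∀ x ∈ A, a * x * a⁻¹ ∈ A) (hbA : ∀ x ∈ A, b * x * b⁻¹ ∈ A)
    (hfix : ∀ i j : ℤ, a ^ i * b ^ j ≠ 1 → ∀ x ∈ A, Commute (a ^ i * b ^ j) x → x ∈ T) : A ≤ T := by
  set B := Subgroup.closure ({a, b} : Set G) with hB
  haveI : IsMulCommutative B := Subgroup.isMulCommutative_closure (by
    rintro x (rfl | rfl) y (rfl | rfl)
    exacts [rfl, hab.eq, hab.symm.eq, rfl])
  have haB : a ∈ B := Subgroup.subset_closure (Or.inl rfl)
  have hbB : b ∈ B := Subgroup.subset_closure (Or.inr rfl)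
  have hmem : ∀ e ∈ B, ∃ i j : ℤ, e = a ^ i * b ^ j := by
    intro e he
    let K : Subgroup G :=
      { carrier := {e | ∃ i j : ℤ, e = a ^ i * b ^ j}
        one_mem' := ⟨0, 0, by simp⟩
        mul_mem' := by
          rintro x y ⟨i, j, rfl⟩ ⟨k, l, rfl⟩
          exact ⟨i + k, j + l, by rw [zpow_add, zpow_add, (hab.zpow_zpow k j).symm.mul_mul_mul_comm]⟩
        inv_mem' := by
          rintro x ⟨i, j, rfl⟩
          exact ⟨-i, -j, by rw [mul_inv_rev, zpow_neg, zpow_neg, ((hab.zpow_zpow i j).inv_inv).eq]⟩ }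
    exact (show B ≤ K from (Subgroup.closure_le K).2 (by
      rintro x (rfl | rfl)
      exacts [⟨1, 0, by simp⟩, ⟨0, 1, by simp⟩])) he
  have hexp : ∀ e ∈ B, e ^ p = 1 := fun e he => by
    obtain ⟨i, j, rfl⟩ := hmem e he
    rw [(hab.zpow_zpow i j).mul_pow, ← zpow_natCast, ← zpow_natCast (b ^ j), ← zpow_mul, ← zpow_mul, mul_comm i,
      mul_comm j, zpow_mul, zpow_mul, zpow_natCast, zpow_natCast, ha, hb, one_zpow, one_zpow, one_mul]
  have hnc : ¬ IsCyclic B := fun hcy => by
    obtain ⟨⟨g, hg⟩, hgen⟩ := hcy.exists_generator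
    have hBg : B ≤ zpowers g := fun x hx => by
      obtain ⟨k, hk⟩ := hgen ⟨x, hx⟩
      exact ⟨k, congrArg Subtype.val hk⟩
    have hle : Nat.card (zpowers g) ≤ p := by
      rw [Nat.card_zpowers]
      exact Nat.le_of_dvd (Fact.out (p := p.Prime)).pos (orderOf_dvd_of_pow_eq_one (hexp g hg))
    have heq : zpowers a = zpowers g := Subgroup.eq_of_le_of_card_ge
      (zpowers_le.2 (hBg haB)) (by rw [Nat.card_zpowers a, orderOf_eq_prime ha ha1]; exact hle)
    exact hba (heq ▸ hBg hbB)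
  have hBp : IsPGroup p B := fun x => ⟨1, Subtype.ext (by simpa using hexp x x.2)⟩
  obtain ⟨m, hm⟩ := IsPGroup.iff_card.1 hBp
  obtain ⟨n, hn⟩ := IsPGroup.iff_card.1 hA
  have hcop : (Nat.card B).Coprime (Nat.card A) := by
    rw [hm, hn]
    exact Nat.Coprime.pow m n ((Nat.coprime_primes Fact.out Fact.out).2 hpq)
  have hnorm : B ≤ normalizer (A : Set G) := (Subgroup.closure_le _).2 (by
    rintro x (rfl | rfl)
    · exact mem_normalizer_fintype (S := (A : Set G)) haA
    · exact mem_normalizer_fintype (S := (A : Set G)) hbA)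
  refine (Cfsg.Lib.Coprime.le_iSup_centralizer_of_not_isCyclic hnc hnorm hcop).trans (iSup_le fun e x hx => ?_)
  obtain ⟨i, j, he⟩ := hmem e e.2.1
  refine hfix i j (he ▸ e.2.2) x hx.1 (he ▸ ?_)
  exact (mem_centralizer_singleton_iff.1 hx.2 : Commute x (e : G)).symm

theorem commute_of_fixed {p q : ℕ} [Fact p.Prime] [Fact q.Prime] (hpq : p ≠ q) {a b c : G} (ha : a ^ p = 1)
    (hb : b ^ p = 1) (hab : Commute a b) (ha1 : a ≠ 1) (hba : b ∉ zpowers a) {A : Subgroup G}
    (hA : IsPGroup q A) (haA : ∀ x ∈ A, a * x * a⁻¹ ∈ A) (hbA : ∀ x ∈ A, b * x * b⁻¹ ∈ A)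
    (hfix : ∀ i j : ℤ, a ^ i * b ^ j ≠ 1 → ∀ x ∈ A, Commute (a ^ i * b ^ j) x → Commute x c) :
    ∀ x ∈ A, Commute x c := fun x hx => mem_centralizer_singleton_iff.1
  (mem_of_fixed (T := centralizer ({c} : Set G)) hpq ha hb hab ha1 hba hA haA hbA
    (fun i j hne v hv hc => mem_centralizer_singleton_iff.2 (hfix i j hne v hv hc).eq) hx)

theorem isSolvable_centralizer_three (h : OrdSix G) {y : G} (hy : orderOf y = 3) :
    Group.IsSolvable (centralizer ({y} : Set G)) :=
  (h.subgroup _).isSolvable_of_not_dvd (Or.inr (Or.inr rfl)) (not_five_dvd_three h hy)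

theorem pow_three_of_mem (h : OrdSix G) {y g : G} (hg : g ∈ cR 3 y) : g ^ 3 = 1 := by
  haveI : Fact (Nat.Prime 3) := ⟨Nat.prime_three⟩
  obtain ⟨j, hj⟩ := IsPGroup.iff_orderOf.1 (isPGroup_cR 3 y) ⟨g, hg⟩
  rw [Subgroup.orderOf_mk] at hj
  exact h.three_pow hj

/-- The three-core of the centralizer of an element of order three contains its centralizer. -/
theorem core_three_self (h : OrdSix G) {y g : G} (hy : orderOf y = 3) (hbot : cR 2 y = ⊥) (hg : Commute g y)
    (hc : ∀ r ∈ cR 3 y, Commute g r) : g ∈ cR 3 y := by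
  haveI : Fact (Nat.Prime 3) := ⟨Nat.prime_three⟩
  haveI := isSolvable_centralizer_three h hy
  set C := centralizer ({y} : Set G) with hC
  have hO : Cfsg.pPrimeCore 3 C = ⊥ := by
    have hp2 : IsPGroup 2 (Cfsg.pPrimeCore 3 C) := by
      refine IsPGroup.of_card (Nat.eq_prime_pow_of_unique_prime_dvd Nat.card_pos.ne' fun {d} hd hdc => ?_)
      have hdC : d ∣ Nat.card C := hdc.trans (card_subgroup_dvd_card _)
      rcases h.prime_cases hd (hdC.trans (card_subgroup_dvd_card _)) with rfl | rfl | rfl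
      · rfl
      · exact absurd hdc (Core.pPrimeCore_not_dvd 3 C)
      · exact absurd hdC (not_five_dvd_three h hy)
    have h2 : Cfsg.pCore 2 C = ⊥ := (map_eq_bot_iff_of_injective _ C.subtype_injective).1 hbot
    exact le_bot_iff.1 (h2 ▸ Core.le_pCore' inferInstance hp2)
  exact ⟨⟨g, mem_centralizer_singleton_iff.2 hg.eq⟩,
    Core.centralizer_pCore_le_of_isPSolvable Core.isPSolvable_of_isSolvable hO
      (mem_centralizer_iff.2 fun x hx => Subtype.ext (hc _ ⟨x, hx, rfl⟩).eq.symm), rfl⟩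

theorem noA4 (h : OrdSix G) (hbot : ∀ y : G, orderOf y = 3 → cR 2 y = ⊥) : NoA4 G := by
  intro u k e hu hu1 hk huk he heu hee'
  by_contra hek
  haveI : Fact (Nat.Prime 2) := ⟨Nat.prime_two⟩
  haveI : Fact (Nat.Prime 3) := ⟨Nat.prime_three⟩
  have hou := orderOf_three hu hu1
  have hk3 : k * k * k = 1 := by rw [← hk]; simp [pow_succ, mul_assoc]
  set e' := k * e * k⁻¹ with he'd
  set e'' := k * e' * k⁻¹ with he''d
  have hrot : k * e'' * k⁻¹ = e := by
    rw [he''d, he'd, show k * (k * (k * e * k⁻¹) * k⁻¹) * k⁻¹ = k * k * k * e * (k * k * k)⁻¹ by group, hk3]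
    group
  have he' : e' * e' = 1 := by
    rw [he'd, show k * e * k⁻¹ * (k * e * k⁻¹) = k * (e * e) * k⁻¹ by group, he]; group
  have hcj : ∀ {p q : G}, Commute p q → Commute (k * p * k⁻¹) (k * q * k⁻¹) := fun hpq => hpq.map (MulAut.conj k)
  have he'e'' : Commute e' e'' := hcj hee'
  have he''e : Commute e'' e := by
    have := hcj he'e''
    rwa [hrot] at this
  set a := e * e' with had
  set a' := k * a * k⁻¹ with ha'd
  set a'' := k * a' * k⁻¹ with ha''d
  have ha' : a' = e' * e'' := by rw [ha'd, had, he''d, he'd]; group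
  have ha'' : a'' = e'' * e := by rw [ha''d, ha', ← hrot, he''d]; group
  have ha2 : a * a = 1 := sq_of_commute he he' hee'
  have ha1 : a ≠ 1 := fun e1 => hek (by
    have h2 : e' = e := by rw [eq_inv_of_mul_eq_one_right e1, inv_eq_of_mul_eq_one_left he]
    exact (mul_inv_eq_iff_eq_mul.1 (he'd ▸ h2)).symm)
  have haa' : Commute a a' := by
    rw [had, ha']
    exact (hee'.mul_right he''e.symm).mul_left ((Commute.refl e').mul_right he'e'')
  have ha'2 : a' * a' = 1 := by
    rw [ha'd, show k * a * k⁻¹ * (k * a * k⁻¹) = k * (a * a) * k⁻¹ by group, ha2]; group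
  have ha'a : a' * a = a'' := by
    rw [ha', had, ha'']
    calc e' * e'' * (e * e') = e' * (e'' * e * e') := by group
      _ = e' * (e' * (e'' * e)) := by rw [(he'e''.mul_right hee'.symm).eq]
      _ = e'' * e := by rw [← mul_assoc, he', one_mul]
  have ha''a : k * a'' * k⁻¹ = a := by
    rw [ha''d, ha'd, show k * (k * (k * a * k⁻¹) * k⁻¹) * k⁻¹ = k * k * k * a * (k * k * k)⁻¹ by group, hk3]
    group
  have hau : Commute a u := heu.mul_left ((huk.symm.mul_left heu).mul_left huk.symm.inv_left)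
  have ha'u : Commute a' u := (huk.symm.mul_left hau).mul_left huk.symm.inv_left
  have hkA : ∀ x ∈ cR 3 u, k * x * k⁻¹ ∈ cR 3 u := fun x hx => conj_mem_cR huk.symm hx
  have haA : ∀ x ∈ cR 3 u, a * x * a⁻¹ ∈ cR 3 u := fun x hx => conj_mem_cR hau hx
  have ha'A : ∀ x ∈ cR 3 u, a' * x * a'⁻¹ ∈ cR 3 u := fun x hx => conj_mem_cR ha'u hx
  -- an element fixed by `a` and inverted by `a'` is trivial
  have hfree : ∀ x ∈ cR 3 u, Commute a x → a' * x * a'⁻¹ = x⁻¹ → x = 1 := fun x hx hax hi => by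
    set x' := k * x * k⁻¹ with hx'd
    set x'' := k * x' * k⁻¹ with hx''d
    have hx' := hkA x hx
    have hx'' := hkA x' hx'
    have hp : x * x' * x'' = 1 := by
      have hxk : (x * k) ^ 3 = x * x' * x'' := by
        rw [hx''d, hx'd, show x * (k * x * k⁻¹) * (k * (k * x * k⁻¹) * k⁻¹)
          = x * k * (x * k) * (x * k) * (k * k * k)⁻¹ by group, hk3, inv_one, mul_one]
        simp [pow_succ, mul_assoc]
      have h9 : (x * k) ^ (3 ^ 2) = 1 := by
        rw [show 3 ^ 2 = 3 * 3 from rfl, pow_mul, hxk]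
        exact pow_three_of_mem h (mul_mem (mul_mem hx hx') hx'')
      obtain ⟨j, -, hj⟩ := (Nat.dvd_prime_pow Nat.prime_three).1 (orderOf_dvd_of_pow_eq_one h9)
      rw [← hxk]
      exact h.three_pow hj
    have hax' : a * x' * a⁻¹ = x'⁻¹ := by
      have e1 : a = a' * a'' := by rw [← ha'a, ← mul_assoc, ha'2, one_mul]
      have e2 : Commute a' x' := hcj hax
      have e3 : a'' * x' * a''⁻¹ = x'⁻¹ := by
        calc a'' * x' * a''⁻¹ = k * (a' * x * a'⁻¹) * k⁻¹ := by rw [ha''d, hx'd]; group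
          _ = x'⁻¹ := by rw [hi, hx'd]; group
      calc a * x' * a⁻¹ = a' * (a'' * x' * a''⁻¹) * a'⁻¹ := by rw [e1]; group
        _ = x'⁻¹ := by rw [e3, e2.inv_right.eq, mul_inv_cancel_right]
    have hax'' : a * x'' * a⁻¹ = x''⁻¹ := by
      calc a * x'' * a⁻¹ = k * (k * (a' * x * a'⁻¹) * k⁻¹) * k⁻¹ := by
            rw [← ha''a, ha''d, hx''d, hx'd]; group
        _ = x''⁻¹ := by rw [hi, hx''d, hx'd]; simp [mul_assoc]
    have e1 : x * x'⁻¹ * x''⁻¹ = 1 := by
      calc x * x'⁻¹ * x''⁻¹ = a * x * a⁻¹ * (a * x' * a⁻¹) * (a * x'' * a⁻¹) := by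
            rw [hax', hax'', hax.eq, mul_inv_cancel_right]
        _ = a * (x * x' * x'') * a⁻¹ := by group
        _ = 1 := by rw [hp]; group
    have e2 : x'' = (x * x')⁻¹ := eq_inv_of_mul_eq_one_right hp
    rw [e2, inv_inv] at e1
    have e0 : x'⁻¹ * x * x' = x⁻¹ := by rw [← mul_one x⁻¹, ← e1]; group
    have e3 : x' * x * x'⁻¹ = x⁻¹ := by
      calc x' * x * x'⁻¹ = x' * (x'⁻¹ * x * x')⁻¹ * x'⁻¹ := by rw [e0, inv_inv]
        _ = x⁻¹ := by group
    have h3 : x' * x' * x' = 1 := by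
      have := pow_three_of_mem h hx'
      rwa [pow_succ, pow_two] at this
    have e4 : x = x⁻¹ := by
      calc x = x' * x' * x' * x * (x' * x' * x')⁻¹ := by rw [h3]; group
        _ = x' * (x' * (x' * x * x'⁻¹) * x'⁻¹) * x'⁻¹ := by group
        _ = x' * (x' * x * x'⁻¹)⁻¹ * x'⁻¹ := by conv_lhs => rw [e3]
                                                group
        _ = x⁻¹ := by rw [e3, inv_inv, e3]
    have h2 : x * x = 1 := by
      calc x * x = x * x⁻¹ := by rw [← e4]
        _ = 1 := mul_inv_cancel x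
    calc x = x ^ 3 * (x * x)⁻¹ := by simp [pow_succ, mul_assoc]
      _ = 1 := by rw [pow_three_of_mem h hx, h2]; group
  have hL : ∀ x ∈ cR 3 u, Commute a x → Commute a' x := fun x hx hax => by
    set d := x⁻¹ * (a' * x * a'⁻¹) with hd
    have hd1 : d = 1 := hfree d (mul_mem (inv_mem hx) (ha'A x hx))
      (hax.inv_right.mul_right ((haa'.mul_right hax).mul_right haa'.inv_right)) (by
        calc a' * d * a'⁻¹ = (a' * x * a'⁻¹)⁻¹ * (a' * a' * x * (a' * a')⁻¹) := by rw [hd]; group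
          _ = d⁻¹ := by rw [hd, ha'2]; group)
    exact mul_inv_eq_iff_eq_mul.1 (inv_mul_eq_one.1 hd1).symm
  have hkk : k * k = k⁻¹ := eq_inv_of_mul_eq_one_left hk3
  have hkA' : ∀ x ∈ cR 3 u, k⁻¹ * x * k ∈ cR 3 u := fun x hx => by
    simpa using conj_mem_cR huk.symm.inv_left hx
  have hall : ∀ x ∈ cR 3 u, Commute x a := by
    refine commute_of_fixed (p := 2) (q := 3) (by norm_num) (by rw [pow_two, ha2]) (by rw [pow_two, ha'2]) haa'
      ha1 ?_ (isPGroup_cR 3 u) haA ha'A fun i j hne x hx hc => ?_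
    · rintro ⟨i, hi⟩
      rcases zpow_two_cases ha2 i with e1 | e1
      · have : a' = 1 := by rw [← hi]; exact e1
        rw [ha'd, conj_eq_one_iff] at this
        exact ha1 this
      · have h2 : a' = a := by rw [← hi]; exact e1
        rw [h2, ha2] at ha'a
        exact ha1 (by rw [← ha''a, ← ha'a]; group)
    have hx1 : Commute x a → Commute x a' := fun hxa => (hL x hx hxa.symm).symm
    have hcon : ∀ {p q : G}, Commute (k * p * k⁻¹) q → Commute p (k⁻¹ * q * k) := fun {p q} hpq => by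
      have h1 := hpq.map (MulAut.conj k⁻¹)
      simp only [MulAut.conj_apply, inv_inv] at h1
      rwa [show k⁻¹ * (k * p * k⁻¹) * k = p by group] at h1
    rcases zpow_two_cases ha2 i with e1 | e1 <;> rcases zpow_two_cases ha'2 j with e2 | e2 <;>
      rw [e1, e2] at hne hc
    · exact absurd (one_mul (1 : G)) hne
    · -- fixed by `a'`
      rw [one_mul] at hc
      have h1 : Commute a (k⁻¹ * x * k) := hcon (ha'd ▸ hc)
      have h2 := hcj (hL _ (hkA' x hx) h1)
      rw [show k * (k⁻¹ * x * k) * k⁻¹ = x by group, ← ha''d] at h2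
      have e3 : a = a' * a'' := by rw [← ha'a, ← mul_assoc, ha'2, one_mul]
      rw [e3]
      exact hc.symm.mul_right h2.symm
    · rw [mul_one] at hc
      exact hc.symm
    · -- fixed by `a''`
      rw [haa'.eq, ha'a] at hc
      have h1 : Commute a (k * x * k⁻¹) := ha''a ▸ hcj hc
      have h2 : Commute a' (k * x * k⁻¹) := hL _ (hkA x hx) h1
      rw [ha'd] at h2
      have h3 := hcon h2
      rw [show k⁻¹ * (k * x * k⁻¹) * k = x by group] at h3
      exact h3.symm
  have hm := core_three_self h hou (hbot u hou) hau fun r hr => (hall r hr).symm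
  exact ha1 (by
    calc a = a ^ 3 * (a * a)⁻¹ := by simp [pow_succ, mul_assoc]
      _ = 1 := by rw [pow_three_of_mem h hm, ha2]; group)

end Cfsg.Lib.Recog.OrderSix.Six
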